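import Cfsg.Agent.Lib.Sporadic.J3Linear.Spread
import Cfsg.Agent.Lib.Involution.ZStar.Basic
import Cfsg.Agent.S3035

/-!
# The centraliser of the element of order three

Modulo `⟨c⟩` it has an involution with dihedral centraliser of order eight, so it has order at most `1080`.
-/

set_option autoImplicit false
set_option maxRecDepth 100000
set_option linter.style.haveILetI false
set_option linter.unusedSectionVars false

namespace CfsgLib.Sporadic.J3Linear

open CfsgLib.SmallGroups.J3Order (Loc mul)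
open Data Subgroup

variable {G : Type*} [Group G] [Finite G] {t : G} {ρ : ℕ → G}

theorem cL_lt {q : ℕ} (hq : q ∈ cL) : q < 1920 := by
  have h := c_spec
  simp only [Bool.and_eq_true, beq_iff_eq] at h
  exact ((mem_filter_lt h.1.2).1 hq).1

theorem mem_cL (h : Loc t ρ) {q : ℕ} (hq : q < 1920) : q ∈ cL ↔ ρ q * ρ 2 = ρ 2 * ρ q := by
  have hc := c_spec
  simp only [Bool.and_eq_true, beq_iff_eq] at hc
  rw [mem_filter_lt hc.1.2]
  simp only [beq_iff_eq, hq, true_and]
  exact eq_iff h hq (by norm_num) (by norm_num) hq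

theorem card_cc (h : Loc t ρ) :
    Nat.card ↥(Subgroup.centralizer ({t} : Set G) ⊓ Subgroup.centralizer ({ρ 2} : Set G)) = 24 := by
  have hnd : cL.Nodup := by decide +kernel
  have e : ∀ g : G, g ∈ Subgroup.centralizer ({t} : Set G) ⊓ Subgroup.centralizer ({ρ 2} : Set G) ↔
      g ∈ img ρ cL := by
    intro g
    constructor
    · rintro ⟨h1, h2⟩
      obtain ⟨i, hi, rfl⟩ := h.cover g (mem_cent.1 h1)
      exact ⟨i, (mem_cL h hi).2 (mem_cent.1 h2), rfl⟩
    · rintro ⟨i, hi, rfl⟩
      exact ⟨mem_cent.2 (h.comm _ (cL_lt hi)), mem_cent.2 ((mem_cL h (cL_lt hi)).1 hi)⟩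
  rw [← show (img ρ cL).ncard = 24 by rw [ncard_img h (fun i hi => cL_lt hi) hnd]; rfl]
  exact Nat.card_congr (Equiv.setCongr (Set.ext e))

/-- The index of an element of the dihedral group. -/
def dIdx : DihedralGroup 4 → ℕ
  | DihedralGroup.r i => dL.getD i.val 0
  | DihedralGroup.sr i => dL.getD (4 + i.val) 0

theorem dIdx_mem : ∀ a : DihedralGroup 4, dIdx a ∈ cL ∧ dIdx a < 1920 := by decide +kernel

theorem dIdx_mul : ∀ a b : DihedralGroup 4, mul (dIdx a) (dIdx b) = dIdx (a * b) := by decide +kernel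

theorem dIdx_one : ∀ a : DihedralGroup 4, (dIdx a = 0 ∨ dIdx a = 2 ∨ dIdx a = mul 2 2) → a = 1 := by decide +kernel

theorem dIdx_cover : ∀ q ∈ cL, ∃ a : DihedralGroup 4, q = dIdx a ∨ q = mul (dIdx a) 2 ∨
    q = mul (dIdx a) (mul 2 2) := by
  decide +kernel

set_option maxHeartbeats 1000000 in
theorem card_cent_le (h : Loc t ρ) {E : Subgroup G} (F : Frame E (ρ 2)) (ht : t ∈ dGrp E (ρ 2)) :
    Nat.card ↥(Subgroup.centralizer ({ρ 2} : Set G)) ≤ 1080 := by
  classical
  set c := ρ 2 with hcdef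
  set Y := Subgroup.centralizer ({c} : Set G)
  have hoc := F.oc
  have hcY : c ∈ Y := mem_cent.2 rfl
  let Z : Subgroup ↥Y := Subgroup.zpowers (⟨c, hcY⟩ : ↥Y)
  have hZle : Z ≤ Subgroup.center ↥Y := Subgroup.zpowers_le.2 (Subgroup.mem_center_iff.2 fun g =>
    Subtype.ext (mem_cent.1 g.2))
  haveI : Z.Normal := ⟨fun z hz g => by rwa [(Subgroup.mem_center_iff.1 (hZle hz)) g, mul_inv_cancel_right]⟩
  have hZcard : Nat.card Z = 3 := by
    rw [Nat.card_zpowers, ← Subgroup.orderOf_coe]; exact hoc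
  have htY : t ∈ Y := ht.2
  have hZmem : ∀ y : ↥Y, y ∈ Z → (y : G) = 1 ∨ (y : G) = c ∨ (y : G) = c * c := by
    intro y hy
    rw [mem_zpowers_iff_mem_range_orderOf, ← Subgroup.orderOf_coe, Finset.mem_image] at hy
    obtain ⟨n, hn, rfl⟩ := hy
    simp only [Finset.mem_range] at hn
    change n < orderOf c at hn
    rw [hoc] at hn
    interval_cases n
    · left; simp
    · right; left; simp
    · right; right; simp [pow_two]
  have h2 : mul 2 2 < 1920 := h.lt _ (by norm_num) _ (by norm_num)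
  have hρ22 : ρ (mul 2 2) = c * c := h.mul _ (by norm_num) _ (by norm_num)
  let f : DihedralGroup 4 → ↥Y := fun a => ⟨ρ (dIdx a), mem_cent.2 ((mem_cL h (dIdx_mem a).2).1 (dIdx_mem a).1)⟩
  let fh : DihedralGroup 4 →* ↥Y := MonoidHom.mk' f fun a b => Subtype.ext (by
    show ρ (dIdx (a * b)) = ρ (dIdx a) * ρ (dIdx b)
    rw [← dIdx_mul, h.mul _ (dIdx_mem a).2 _ (dIdx_mem b).2])
  let π := QuotientGroup.mk' Z
  set z : ↥Y ⧸ Z := π ⟨t, htY⟩
  have htt : t * t = 1 := by
    have := pow_orderOf_eq_one t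
    rwa [h.ht, pow_two] at this
  have ht1 : t ≠ 1 := fun e => by simpa [e] using h.ht
  have htZ : (⟨t, htY⟩ : ↥Y) ∉ Z := fun hm => by
    have := Subgroup.orderOf_dvd_natCard Z hm
    rw [← Subgroup.orderOf_coe, hZcard] at this
    rw [show orderOf ((⟨t, htY⟩ : ↥Y) : G) = 2 from h.ht] at this
    norm_num at this
  have hz : orderOf z = 2 := by
    refine orderOf_eq_prime ?_ (fun e => htZ ((QuotientGroup.eq_one_iff _).1 e))
    rw [← map_pow, show (⟨t, htY⟩ : ↥Y) ^ 2 = 1 from Subtype.ext (by simp [pow_two, htt]), map_one]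
  have hmem : ∀ a, π (fh a) ∈ Subgroup.centralizer ({z} : Set (↥Y ⧸ Z)) := fun a => mem_cent.2 (by
    rw [← map_mul, ← map_mul]
    exact congrArg π (Subtype.ext (h.comm _ (dIdx_mem a).2)))
  let ψ : DihedralGroup 4 →* ↥(Subgroup.centralizer ({z} : Set (↥Y ⧸ Z))) := (π.comp fh).codRestrict _ hmem
  have hbij : Function.Bijective ψ := by
    constructor
    · refine (injective_iff_map_eq_one ψ).2 fun a ha => dIdx_one a ?_
      have : fh a ∈ Z := (QuotientGroup.eq_one_iff _).1 (congrArg Subtype.val ha)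
      rcases hZmem _ this with e | e | e
      · exact Or.inl ((eq_one_iff h (dIdx_mem a).2).1 e)
      · exact Or.inr (Or.inl (h.inj _ (dIdx_mem a).2 _ (by norm_num) e))
      · exact Or.inr (Or.inr (h.inj _ (dIdx_mem a).2 _ h2 (e.trans hρ22.symm)))
    · rintro ⟨q, hq⟩
      obtain ⟨y, rfl⟩ := QuotientGroup.mk'_surjective Z q
      have hq' := mem_cent.1 hq
      rw [← map_mul, ← map_mul] at hq'
      have hk : ((⟨t, htY⟩ : ↥Y) * y)⁻¹ * (y * ⟨t, htY⟩) ∈ Z := QuotientGroup.eq.1 hq'.symm
      have hyc : Commute (y : G) c := mem_cent.1 y.2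
      have hcomm : (y : G) * t = t * y := by
        set k := ((⟨t, htY⟩ : ↥Y) * y)⁻¹ * (y * ⟨t, htY⟩) with hkdef
        have hk0 : (k : G) = ((y : G)⁻¹ * t * y) * t := by
          rw [hkdef]
          simp only [Subgroup.coe_mul, InvMemClass.coe_inv, mul_inv_rev, inv_eq_of_mul_eq_one_right htt]
          group
        set i' := (y : G)⁻¹ * t * y
        have hi2 : i' * i' = 1 := by
          calc i' * i' = (y : G)⁻¹ * (t * t) * y := by simp only [i']; group
            _ = 1 := by rw [htt]; group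
        have htc : Commute t c := mem_cent.1 htY
        have hi'k : i' = (k : G) * t := by rw [hk0, mul_assoc, htt, mul_one]
        have hkt : Commute (k : G) t := by
          rcases hZmem k hk with e | e | e <;> rw [e]
          · exact Commute.one_left _
          · exact htc.symm
          · exact htc.symm.mul_left htc.symm
        have hk2 : (k : G) * k = 1 := by
          calc (k : G) * k = (k : G) * k * (t * t) := by rw [htt, mul_one]
            _ = (k : G) * (k * t) * t := by group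
            _ = (k : G) * (t * k) * t := by rw [hkt.eq]
            _ = ((k : G) * t) * ((k : G) * t) := by group
            _ = 1 := by rw [← hi'k, hi2]
        have hc3 : c ^ 3 = 1 := hoc ▸ pow_orderOf_eq_one c
        have hk3 : (k : G) ^ 3 = 1 := by
          rcases hZmem k hk with e | e | e <;> rw [e]
          · simp
          · exact hc3
          · rw [← pow_two, ← pow_mul, mul_comm 2 3, pow_mul, hc3, one_pow]
        have hk1 : (k : G) = 1 := by
          rw [pow_succ, pow_two, hk2, one_mul] at hk3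
          exact hk3
        rw [hk1, one_mul] at hi'k
        calc (y : G) * t = (y : G) * i' := by rw [hi'k]
          _ = t * y := by simp only [i']; group
      obtain ⟨i, hi, hy⟩ := h.cover (y : G) hcomm
      have hic : i ∈ cL := (mem_cL h hi).2 (by rw [hy]; exact hyc.eq)
      obtain ⟨a, ha⟩ := dIdx_cover i hic
      refine ⟨a, Subtype.ext ?_⟩
      show π (fh a) = π y
      refine QuotientGroup.eq.2 ?_
      have hc' : (⟨c, hcY⟩ : ↥Y) ∈ Z := Subgroup.mem_zpowers _
      rcases ha with e | e | e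
      · rw [show fh a = y from Subtype.ext (by rw [← hy, e]; rfl), inv_mul_cancel]
        exact one_mem _
      · rw [show (fh a)⁻¹ * y = ⟨c, hcY⟩ from Subtype.ext (by
          rw [Subgroup.coe_mul, InvMemClass.coe_inv, ← hy, e, h.mul _ (dIdx_mem a).2 _ (by norm_num)]
          exact inv_mul_cancel_left _ _)]
        exact hc'
      · rw [show (fh a)⁻¹ * y = ⟨c, hcY⟩ * ⟨c, hcY⟩ from Subtype.ext (by
          rw [Subgroup.coe_mul, InvMemClass.coe_inv, ← hy, e, h.mul _ (dIdx_mem a).2 _ h2, hρ22]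
          exact inv_mul_cancel_left _ _)]
        exact mul_mem hc' hc'
  have hY : Nat.card ↥Y = 3 * Nat.card (↥Y ⧸ Z) := by
    rw [← hZcard, ← Subgroup.index, Subgroup.card_mul_index]
  have hDY : dGrp E c ≤ Y := inf_le_right
  rcases Cfsg.Agent.S3035.result z hz ⟨(MulEquiv.ofBijective ψ hbij).symm⟩ with e | ⟨⟨e⟩⟩ | ⟨⟨e⟩⟩ | ⟨⟨e⟩⟩ | ⟨⟨e⟩⟩
  · exfalso
    set O := Cfsg.oddCore (↥Y ⧸ Z)
    haveI : O.Normal := CfsgLib.Involution.ZStar.oddCore_normal
    have hodd : Odd (Nat.card O) := CfsgLib.Involution.ZStar.odd_card_oddCore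
    have hO8 : O.index ∣ 8 := by
      let χ := (QuotientGroup.mk' O).comp (Subgroup.centralizer ({z} : Set (↥Y ⧸ Z))).subtype
      have hs : Function.Surjective χ := by
        intro q
        obtain ⟨x, rfl⟩ := QuotientGroup.mk'_surjective O q
        obtain ⟨a, ha, b, hb, rfl⟩ := Subgroup.mem_sup_of_normal_right.1 (e ▸ Subgroup.mem_top x)
        refine ⟨⟨a, ha⟩, ?_⟩
        show QuotientGroup.mk' O a = _
        rw [map_mul, show QuotientGroup.mk' O b = 1 from (QuotientGroup.eq_one_iff b).2 hb, mul_one]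
      have := Subgroup.card_dvd_of_surjective χ hs
      rwa [← Nat.card_congr (MulEquiv.ofBijective ψ hbij).toEquiv, DihedralGroup.nat_card,
        ← Subgroup.index] at this
    -- the preimage meets `D` in a normal subgroup of order `45`
    set D' := (dGrp E c).subgroupOf Y
    set O' := O.comap π
    haveI : O'.Normal := Subgroup.Normal.comap inferInstance _
    have hO'i : O'.index = O.index := Subgroup.index_comap_of_surjective _ (QuotientGroup.mk'_surjective Z)
    have hO'odd : Odd (Nat.card O') := by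
      have h1 := O'.card_mul_index
      rw [hO'i, hY, ← O.card_mul_index, ← mul_assoc] at h1
      have h2 : Nat.card O' = 3 * Nat.card O :=
        Nat.eq_of_mul_eq_mul_right (Nat.pos_of_ne_zero Subgroup.index_ne_zero_of_finite) h1
      rw [h2]
      exact Odd.mul ⟨1, rfl⟩ hodd
    set M := O' ⊓ D'
    have hD' : Nat.card D' = 180 := (Nat.card_congr (Subgroup.subgroupOfEquivOfLe hDY).toEquiv).trans F.cardD
    have hrel : O'.relIndex D' ∣ 8 := (Subgroup.relIndex_dvd_index_of_normal O' D').trans (hO'i ▸ hO8)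
    have hM1 : Nat.card M * O'.relIndex D' = 180 := by
      rw [← hD', ← Subgroup.inf_relIndex_right, Subgroup.relIndex,
        ← Nat.card_congr (Subgroup.subgroupOfEquivOfLe (show M ≤ D' from inf_le_right)).toEquiv]
      exact Subgroup.card_mul_index _
    have hModd : Odd (Nat.card M) := Odd.of_dvd_nat hO'odd (Subgroup.card_dvd_of_le inf_le_left)
    have hM45 : Nat.card M = 45 := by
      have h4 : O'.relIndex D' ≤ 8 := Nat.le_of_dvd (by norm_num) hrel
      obtain ⟨m, hm⟩ := hModd
      interval_cases hr : O'.relIndex D' <;> omega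
    refine F.no45 (M.map Y.subtype) ?_ (by rw [Subgroup.card_map_of_injective Y.subtype_injective, hM45]) ?_
    · rintro _ ⟨x, hx, rfl⟩; exact hx.2
    · rintro d hd _ ⟨x, hx, rfl⟩
      exact ⟨⟨d, hDY hd⟩ * x * ⟨d, hDY hd⟩⁻¹, ⟨Subgroup.Normal.conj_mem inferInstance _ hx.1 _,
        (mul_mem (mul_mem hd hx.2) (inv_mem hd) : d * (x : G) * d⁻¹ ∈ dGrp E c)⟩, rfl⟩
  · rw [hY, Nat.card_congr e.toEquiv, Nat.card_perm, Nat.card_fin]; decide
  · rw [hY, Nat.card_congr e.toEquiv, Nat.card_perm, Nat.card_fin]; decide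
  · rw [hY, Nat.card_congr e.toEquiv, Cfsg.Agent.S3035.card_sl]; norm_num
  · rw [hY, Nat.card_congr e.toEquiv, nat_card_alternatingGroup, Nat.card_fin]; decide

end CfsgLib.Sporadic.J3Linear
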