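import Cfsg.Agent.S0727
import Cfsg.Agent.Lib.Perm.SharpThreeOdd
import Mathlib

/-!
# Recognition of `SL(2,16)` and of its extension by an involution

An elementary abelian group `E` of order sixteen, an element `d` of order fifteen acting freely on it, and an
involution `w` inverting `d` with `(wu)³ = 1` for one `u ≠ 1` of `E`.
-/

set_option autoImplicit false
set_option linter.style.haveILetI false
set_option linter.unusedSectionVars false

namespace CfsgLib.Sporadic.J3Linear

open Subgroup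

variable {G : Type*} [Group G] [Finite G]

/-- The data. -/
structure Steinberg (E : Subgroup G) (d w u : G) : Prop where
  card : Nat.card E = 16
  sq : ∀ x ∈ E, x * x = 1
  od : orderOf d = 15
  norm : d ∈ Subgroup.normalizer ((E : Subgroup G) : Set G)
  free : ∀ x ∈ E, ∀ i : ℕ, d ^ i * x = x * d ^ i → x = 1 ∨ 15 ∣ i
  w2 : w * w = 1
  inv : w * d * w = d⁻¹
  uE : u ∈ E
  u1 : u ≠ 1
  wu : (w * u) ^ 3 = 1

variable {E : Subgroup G} {d w u : G}

namespace Steinberg

theorem conj_mem (S : Steinberg E d w u) {x : G} (hx : x ∈ E) (i : ℕ) : d ^ i * x * (d ^ i)⁻¹ ∈ E :=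
  (Subgroup.mem_normalizer_iff.1 (pow_mem S.norm i) x).1 hx

theorem inv_conj_mem (S : Steinberg E d w u) {x : G} (hx : x ∈ E) (i : ℕ) : (d ^ i)⁻¹ * x * d ^ i ∈ E := by
  have := (Subgroup.mem_normalizer_iff.1 (inv_mem (pow_mem S.norm i)) x).1 hx
  rwa [inv_inv] at this

theorem pow_dinv (S : Steinberg E d w u) (i : ℕ) : ∃ j : ℕ, (d ^ i)⁻¹ = d ^ j := by
  refine ⟨14 * i, inv_eq_of_mul_eq_one_right ?_⟩
  rw [← pow_add, show i + 14 * i = orderOf d * i by rw [S.od]; ring, pow_mul, pow_orderOf_eq_one, one_pow]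

theorem w_pow (S : Steinberg E d w u) (i : ℕ) : w * d ^ i = (d ^ i)⁻¹ * w := by
  have hw : w⁻¹ = w := inv_eq_of_mul_eq_one_right S.w2
  have h : w * d ^ i * w⁻¹ = (d ^ i)⁻¹ := by rw [← conj_pow, hw, S.inv, inv_pow]
  exact mul_inv_eq_iff_eq_mul.1 h

theorem orbit (S : Steinberg E d w u) {x : G} (hx : x ∈ E) (hx1 : x ≠ 1) :
    ∃ i < 15, d ^ i * u * (d ^ i)⁻¹ = x := by
  classical
  let f : ℕ → G := fun i => d ^ i * u * (d ^ i)⁻¹
  have hinj : ∀ a < 15, ∀ b < 15, a ≤ b → f a = f b → a = b := by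
    intro a ha b hb hle e
    have hc : d ^ (b - a) * u = u * d ^ (b - a) := by
      have e1 : d ^ b = d ^ a * d ^ (b - a) := by rw [← pow_add]; congr 1; omega
      have e2 : d ^ a * u * (d ^ a)⁻¹ = d ^ a * (d ^ (b - a) * u * (d ^ (b - a))⁻¹) * (d ^ a)⁻¹ := by
        show f a = _
        rw [e]
        show d ^ b * u * (d ^ b)⁻¹ = _
        rw [e1]; group
      exact (mul_inv_eq_iff_eq_mul.1 (mul_left_cancel (mul_right_cancel e2)).symm)
    rcases S.free u S.uE _ hc with h | h
    · exact absurd h S.u1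
    · omega
  have hInj : Set.InjOn f (Finset.range 15 : Finset ℕ) := by
    intro a ha b hb e
    simp only [Finset.coe_range, Set.mem_Iio] at ha hb
    rcases Nat.le_total a b with h | h
    · exact hinj a ha b hb h e
    · exact (hinj b hb a ha h e.symm).symm
  have hsub : (((Finset.range 15).image f : Finset G) : Set G) ⊆ (E : Set G) \ {1} := by
    intro y hy
    simp only [Finset.coe_image, Set.mem_image, Finset.coe_range] at hy
    obtain ⟨i, -, rfl⟩ := hy
    exact ⟨S.conj_mem S.uE i, fun e => S.u1 (conj_eq_one_iff.1 (Set.mem_singleton_iff.1 e))⟩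
  have heq := Set.eq_of_subset_of_ncard_le hsub (by
    rw [Set.ncard_coe_finset, Finset.card_image_of_injOn hInj, Finset.card_range,
      Set.ncard_diff_singleton_of_mem E.one_mem, ← Nat.card_coe_set_eq]
    show Nat.card E - 1 ≤ 15
    rw [S.card])
  have : x ∈ (((Finset.range 15).image f : Finset G) : Set G) := heq ▸ ⟨hx, hx1⟩
  simp only [Finset.coe_image, Set.mem_image, Finset.coe_range, Set.mem_Iio] at this
  exact this

/-- `w x w` for `x ≠ 1`. -/
theorem bruhat (S : Steinberg E d w u) {x : G} (hx : x ∈ E) (hx1 : x ≠ 1) :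
    ∃ y ∈ E, ∃ i : ℕ, ∃ z ∈ E, w * x * w = y * w * d ^ i * z := by
  obtain ⟨k, -, rfl⟩ := S.orbit hx hx1
  obtain ⟨j, hj⟩ := S.pow_dinv k
  have e : w * u * w = u * w * u := by
    have h := S.wu
    rw [pow_succ, pow_two] at h
    have h1 : w * u * w * (u * w * u) = 1 := by rw [← h]; group
    have hu := S.sq u S.uE
    have h2 : (u * w * u) * (u * w * u) = 1 := by
      calc u * w * u * (u * w * u) = u * w * (u * u) * w * u := by group
        _ = u * (w * w) * u := by rw [hu]; group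
        _ = 1 := by rw [S.w2, mul_one, hu]
    exact (eq_inv_of_mul_eq_one_left h1).trans (inv_eq_of_mul_eq_one_right h2)
  refine ⟨(d ^ k)⁻¹ * u * d ^ k, S.inv_conj_mem S.uE k, k + k, (d ^ k)⁻¹ * u * d ^ k, S.inv_conj_mem S.uE k, ?_⟩
  have h1 : w * d ^ k = (d ^ k)⁻¹ * w := S.w_pow k
  have h2 : (d ^ k)⁻¹ * w = w * d ^ k := h1.symm
  calc w * (d ^ k * u * (d ^ k)⁻¹) * w = (w * d ^ k) * u * ((d ^ k)⁻¹ * w) := by group
    _ = (d ^ k)⁻¹ * (w * u * w) * d ^ k := by rw [h1]; nth_rewrite 2 [h2]; group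
    _ = (d ^ k)⁻¹ * u * d ^ k * ((d ^ k)⁻¹ * w) * d ^ k * ((d ^ k)⁻¹ * u * d ^ k) := by rw [e]; group
    _ = _ := by rw [h2, pow_add]; group

/-- The Borel subgroup. -/
def borel (S : Steinberg E d w u) : Subgroup G where
  carrier := {g | ∃ e ∈ E, ∃ i : ℕ, g = e * d ^ i}
  one_mem' := ⟨1, one_mem E, 0, by simp⟩
  mul_mem' := by
    rintro _ _ ⟨e, he, i, rfl⟩ ⟨f, hf, j, rfl⟩
    exact ⟨e * (d ^ i * f * (d ^ i)⁻¹), mul_mem he (S.conj_mem hf i), i + j, by rw [pow_add]; group⟩
  inv_mem' := by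
    rintro _ ⟨e, he, i, rfl⟩
    obtain ⟨j, hj⟩ := S.pow_dinv i
    exact ⟨(d ^ i)⁻¹ * e⁻¹ * d ^ i, S.inv_conj_mem (inv_mem he) i, j, by rw [← hj]; group⟩

theorem mem_borel (S : Steinberg E d w u) {g : G} : g ∈ S.borel ↔ ∃ e ∈ E, ∃ i : ℕ, g = e * d ^ i := Iff.rfl

theorem E_le (S : Steinberg E d w u) : E ≤ S.borel := fun e he => ⟨e, he, 0, by simp⟩

theorem pow_mem_borel (S : Steinberg E d w u) (i : ℕ) : d ^ i ∈ S.borel := ⟨1, one_mem E, i, (one_mul _).symm⟩

/-- An involution of the Borel subgroup lies in `E`. -/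
theorem borel_invol (S : Steinberg E d w u) {g : G} (hg : g ∈ S.borel) (h2 : g * g = 1) : g ∈ E := by
  obtain ⟨e, he, i, rfl⟩ := hg
  have h1 : d ^ (i + i) ∈ E := by
    have : d ^ (i + i) = (d ^ i * e * (d ^ i)⁻¹)⁻¹ * e⁻¹ * (e * d ^ i * (e * d ^ i)) := by rw [pow_add]; group
    rw [this, h2, mul_one]
    exact mul_mem (inv_mem (S.conj_mem he i)) (inv_mem he)
  have h3 : d ^ (i + i + (i + i)) = 1 := by rw [pow_add]; exact S.sq _ h1
  have h15 : 15 ∣ i + i + (i + i) := S.od ▸ orderOf_dvd_of_pow_eq_one h3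
  obtain ⟨k, rfl⟩ : 15 ∣ i := by omega
  rw [pow_mul, ← S.od, pow_orderOf_eq_one, one_pow, mul_one]
  exact he

theorem w_not_mem (S : Steinberg E d w u) : w ∉ S.borel := by
  intro hw
  have hwE := S.borel_invol hw S.w2
  have h1 : d ^ 2 ∈ E := by
    have hw' : w⁻¹ = w := inv_eq_of_mul_eq_one_right S.w2
    have h2 := (Subgroup.mem_normalizer_iff.1 S.norm w).1 hwE
    have : d ^ 2 = (d * w * d⁻¹) * w := by
      rw [pow_two]
      calc d * d = d * (w * (w * d * w) * w) := by
            rw [show w * (w * d * w) * w = (w * w) * d * (w * w) by group, S.w2]; group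
        _ = d * w * d⁻¹ * w := by rw [S.inv]; group
    rw [this]; exact mul_mem h2 hwE
  have h4 : d ^ 4 = 1 := by rw [show 4 = 2 + 2 from rfl, pow_add]; exact S.sq _ h1
  have := orderOf_dvd_of_pow_eq_one h4
  rw [S.od] at this
  norm_num at this

/-- The group `B ∪ BwE`. -/
def big (S : Steinberg E d w u) : Subgroup G where
  carrier := {g | g ∈ S.borel ∨ ∃ b ∈ S.borel, ∃ e ∈ E, g = b * w * e}
  one_mem' := Or.inl (one_mem _)
  mul_mem' := by
    have hwb : ∀ b ∈ S.borel, ∀ e ∈ E, w * e * b ∈ {g | ∃ b ∈ S.borel, ∃ e ∈ E, g = b * w * e} := by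
      rintro _ ⟨f, hf, i, rfl⟩ e he
      obtain ⟨j, hj⟩ := S.pow_dinv i
      refine ⟨(d ^ i)⁻¹, hj ▸ S.pow_mem_borel j, (d ^ i)⁻¹ * (e * f) * d ^ i, S.inv_conj_mem (mul_mem he hf) i, ?_⟩
      rw [← S.w_pow i]; group
    rintro g g' hg hg'
    rcases hg with hg | ⟨b, hb, e, he, rfl⟩
    · rcases hg' with hg' | ⟨b', hb', e', he', rfl⟩
      · exact Or.inl (mul_mem hg hg')
      · exact Or.inr ⟨g * b', mul_mem hg hb', e', he', by group⟩
    · rcases hg' with hg' | ⟨b', hb', e', he', rfl⟩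
      · obtain ⟨b₁, hb₁, e₁, he₁, q⟩ := hwb g' hg' e he
        refine Or.inr ⟨b * b₁, mul_mem hb hb₁, e₁, he₁, ?_⟩
        calc b * w * e * g' = b * (w * e * g') := by group
          _ = _ := by rw [q]; group
      · obtain ⟨b₁, hb₁, e₁, he₁, q⟩ := hwb b' hb' e he
        have q2 : b * w * e * (b' * w * e') = b * b₁ * (w * e₁ * w) * e' := by
          calc b * w * e * (b' * w * e') = b * (w * e * b') * w * e' := by group
            _ = _ := by rw [q]; group
        rw [q2]
        by_cases h1 : e₁ = 1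
        · left
          rw [h1, mul_one, S.w2, mul_one]
          exact mul_mem (mul_mem hb hb₁) (S.E_le he')
        · obtain ⟨y, hy, i, z, hz, q3⟩ := S.bruhat he₁ h1
          right
          obtain ⟨j, hj⟩ := S.pow_dinv i
          refine ⟨b * b₁ * y * (d ^ i)⁻¹, mul_mem (mul_mem (mul_mem hb hb₁) (S.E_le hy)) (hj ▸ S.pow_mem_borel j),
            z * e', mul_mem hz he', ?_⟩
          rw [q3]
          calc b * b₁ * (y * w * d ^ i * z) * e' = b * b₁ * y * (w * d ^ i) * (z * e') := by group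
            _ = _ := by rw [S.w_pow i]; group
  inv_mem' := by
    rintro g (hg | ⟨b, hb, e, he, rfl⟩)
    · exact Or.inl (inv_mem hg)
    · obtain ⟨f, hf, i, hbe⟩ := inv_mem hb
      obtain ⟨j, hj⟩ := S.pow_dinv i
      refine Or.inr ⟨e⁻¹ * (d ^ i)⁻¹, mul_mem (S.E_le (inv_mem he)) (hj ▸ S.pow_mem_borel j),
        (d ^ i)⁻¹ * f * d ^ i, S.inv_conj_mem hf i, ?_⟩
      rw [mul_inv_rev, mul_inv_rev, inv_eq_of_mul_eq_one_right S.w2, hbe, mul_assoc e⁻¹ (d ^ i)⁻¹ w, ← S.w_pow i]
      group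

theorem borel_le (S : Steinberg E d w u) : S.borel ≤ S.big := fun g hg => Or.inl hg

theorem w_mem (S : Steinberg E d w u) : w ∈ S.big :=
  Or.inr ⟨1, one_mem _, 1, one_mem E, by simp⟩

theorem wEw (S : Steinberg E d w u) {e : G} (he : e ∈ E) (h : w * e * w ∈ S.borel) : e = 1 := by
  by_contra h1
  obtain ⟨y, hy, i, z, hz, q⟩ := S.bruhat he h1
  rw [q] at h
  refine S.w_not_mem ?_
  have : y⁻¹ * (y * w * d ^ i * z) * z⁻¹ * (d ^ i)⁻¹ = w := by group
  refine (congrArg (fun x => x ∈ S.borel) this).mp ?_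
  exact mul_mem (mul_mem (mul_mem (inv_mem (S.E_le hy)) h) (inv_mem (S.E_le hz))) (inv_mem (S.pow_mem_borel i))

theorem card_borel (S : Steinberg E d w u) : Nat.card S.borel = 240 := by
  have : Nat.card (↥E × Fin 15) = Nat.card S.borel := Nat.card_congr (Equiv.ofBijective
    (fun p => (⟨(p.1 : G) * d ^ (p.2 : ℕ), mul_mem (S.E_le p.1.2) (S.pow_mem_borel _)⟩ : S.borel)) ⟨?_, ?_⟩)
  · rw [← this, Nat.card_prod, S.card, Nat.card_fin]
  · rintro ⟨a, i⟩ ⟨b, j⟩ e
    have e' : (a : G) * d ^ (i : ℕ) = b * d ^ (j : ℕ) := congrArg Subtype.val e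
    have hij : i = j := by
      have hm : d ^ (i : ℕ) * (d ^ (j : ℕ))⁻¹ ∈ E := by
        have : d ^ (i : ℕ) * (d ^ (j : ℕ))⁻¹ = (a : G)⁻¹ * b := by
          rw [eq_inv_mul_iff_mul_eq, ← mul_assoc, e']; group
        rw [this]; exact mul_mem (inv_mem a.2) b.2
      obtain ⟨k, hk⟩ := S.pow_dinv (j : ℕ)
      rw [hk, ← pow_add] at hm
      have h2 : d ^ ((i : ℕ) + k + ((i : ℕ) + k)) = 1 := by rw [pow_add]; exact S.sq _ hm
      have h3 : 15 ∣ (i : ℕ) + k + ((i : ℕ) + k) := by
        have := orderOf_dvd_of_pow_eq_one h2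
        rwa [S.od] at this
      have h4 : d ^ (j : ℕ) * d ^ k = 1 := by rw [← hk, mul_inv_cancel]
      rw [← pow_add] at h4
      have h5 : 15 ∣ (j : ℕ) + k := by
        have := orderOf_dvd_of_pow_eq_one h4
        rwa [S.od] at this
      apply Fin.ext
      omega
    subst hij
    exact Prod.ext (Subtype.ext (mul_right_cancel e')) rfl
  · rintro ⟨_, e, he, i, rfl⟩
    refine ⟨(⟨e, he⟩, ⟨i % 15, Nat.mod_lt _ (by norm_num)⟩), Subtype.ext ?_⟩
    show e * d ^ (i % 15) = e * d ^ i
    rw [← S.od, pow_mod_orderOf]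

theorem card_big (S : Steinberg E d w u) : Nat.card S.big = 4080 := by
  have hbij : Nat.card (↥S.borel ⊕ (↥S.borel × ↥E)) = Nat.card S.big := Nat.card_congr (Equiv.ofBijective
    (Sum.elim (fun b : ↥S.borel => (⟨(b : G), S.borel_le b.2⟩ : S.big))
      (fun q : ↥S.borel × ↥E => (⟨(q.1 : G) * w * q.2, Or.inr ⟨q.1, q.1.2, q.2, q.2.2, rfl⟩⟩ : S.big)))
      ⟨?_, ?_⟩)
  · rw [← hbij, Nat.card_sum, Nat.card_prod, S.card_borel, S.card]
  · have hno : ∀ (b b' : ↥S.borel) (e : ↥E), (b : G) ≠ b' * w * e := fun b b' e q => S.w_not_mem (by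
      refine (congrArg (fun x => x ∈ S.borel) (show (b' : G)⁻¹ * b * (e : G)⁻¹ = w by rw [q]; group)).mp ?_
      exact mul_mem (mul_mem (inv_mem b'.2) b.2) (inv_mem (S.E_le e.2)))
    rintro (b | ⟨b, e⟩) (b' | ⟨b', e'⟩) q <;> replace q := congrArg Subtype.val q <;>
      simp only [Sum.elim_inl, Sum.elim_inr] at q
    · exact congrArg Sum.inl (Subtype.ext q)
    · exact absurd q (hno b b' e')
    · exact absurd q.symm (hno b' b e)
    · have h : w * ((e : G) * (e' : G)⁻¹) * w ∈ S.borel := by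
        have : w * ((e : G) * (e' : G)⁻¹) * w = (b : G)⁻¹ * b' := by
          calc w * ((e : G) * (e' : G)⁻¹) * w = (b : G)⁻¹ * ((b : G) * w * e) * (e' : G)⁻¹ * w := by group
            _ = (b : G)⁻¹ * b' * (w * w) := by rw [q]; group
            _ = _ := by rw [S.w2, mul_one]
        rw [this]; exact mul_mem (inv_mem b.2) b'.2
      have he : e = e' := Subtype.ext (mul_inv_eq_one.1 (S.wEw (mul_mem e.2 (inv_mem e'.2)) h))
      subst he
      exact congrArg Sum.inr (Prod.ext (Subtype.ext (mul_right_cancel (mul_right_cancel q))) rfl)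
  · rintro ⟨g, hg | ⟨b, hb, e, he, rfl⟩⟩
    · exact ⟨Sum.inl ⟨g, hg⟩, rfl⟩
    · exact ⟨Sum.inr (⟨b, hb⟩, ⟨e, he⟩), rfl⟩

set_option maxHeartbeats 1000000 in
theorem exists_iso (S : Steinberg E d w u) :
    ∃ (K : Type) (_ : Field K) (_ : Fintype K), Fintype.card K = 16 ∧
      Nonempty (↥S.big ≃* Matrix.SpecialLinearGroup (Fin 2) K) := by
  classical
  set B := S.borel.subgroupOf S.big
  let α := ↥S.big ⧸ B
  letI : Fintype α := Fintype.ofFinite α
  have hα : Fintype.card α = 2 ^ 4 + 1 := by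
    rw [← Nat.card_eq_fintype_card]
    have := B.index_mul_card
    rw [Nat.card_congr (Subgroup.subgroupOfEquivOfLe S.borel_le).toEquiv, S.card_borel, S.card_big] at this
    show B.index = 17
    omega
  let w' : ↥S.big := ⟨w, S.w_mem⟩
  let e' : ↥S.big := ⟨u, S.borel_le (S.E_le S.uE)⟩
  let p : α := QuotientGroup.mk (1 : ↥S.big)
  let q : α := QuotientGroup.mk w'
  let r : α := QuotientGroup.mk (e' * w')
  have hfix : ∀ (g x : ↥S.big), g • (QuotientGroup.mk x : α) = QuotientGroup.mk x ↔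
      (x : G)⁻¹ * g * x ∈ S.borel := by
    intro g x
    show (QuotientGroup.mk (g * x) : α) = QuotientGroup.mk x ↔ _
    rw [eq_comm, QuotientGroup.eq, Subgroup.mem_subgroupOf]
    simp [mul_assoc]
  have hww : w⁻¹ = w := inv_eq_of_mul_eq_one_right S.w2
  -- only the identity fixes the three points
  have hpqr : ∀ g : ↥S.big, g • p = p → g • q = q → g • r = r → g = 1 := by
    intro g hp hq hr
    rw [hfix] at hp hq hr
    simp only [OneMemClass.coe_one, inv_one, one_mul, mul_one] at hp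
    obtain ⟨e, he, i, hg⟩ := hp
    have hq' : w * (e * d ^ i) * w ∈ S.borel := by
      rw [hg] at hq; simpa [w', hww] using hq
    have he1 : e = 1 := S.wEw he (by
      have : w * e * w = w * (e * d ^ i) * w * d ^ i := by
        calc w * e * w = w * (e * d ^ i) * ((d ^ i)⁻¹ * w) := by group
          _ = w * (e * d ^ i) * (w * d ^ i) := by rw [S.w_pow i]
          _ = _ := by group
      rw [this]; exact mul_mem hq' (S.pow_mem_borel i))
    rw [he1, one_mul] at hg
    have hr' : w * (u * d ^ i * u) * w ∈ S.borel := by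
      rw [hg] at hr
      simpa [w', e', hww, inv_eq_of_mul_eq_one_right (S.sq u S.uE), mul_assoc] using hr
    have hud : u * (d ^ i * u * (d ^ i)⁻¹) = 1 := S.wEw (mul_mem S.uE (S.conj_mem S.uE i)) (by
      have : w * (u * (d ^ i * u * (d ^ i)⁻¹)) * w = w * (u * d ^ i * u) * w * d ^ i := by
        calc w * (u * (d ^ i * u * (d ^ i)⁻¹)) * w = w * (u * d ^ i * u) * ((d ^ i)⁻¹ * w) := by group
          _ = w * (u * d ^ i * u) * (w * d ^ i) := by rw [S.w_pow i]
          _ = _ := by group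
      rw [this]; exact mul_mem hr' (S.pow_mem_borel i))
    have : d ^ i * u = u * d ^ i := by
      have h := eq_inv_of_mul_eq_one_right hud
      rw [inv_eq_of_mul_eq_one_right (S.sq u S.uE)] at h
      exact mul_inv_eq_iff_eq_mul.1 h
    rcases S.free u S.uE i this with h | ⟨k, hk⟩
    · exact absurd h S.u1
    · refine Subtype.ext ?_
      rw [hg, hk, pow_mul, ← S.od, pow_orderOf_eq_one, one_pow]
      rfl
  have hpq : p ≠ q := fun e => S.w_not_mem (by
    have := QuotientGroup.eq.1 e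
    simpa [B, Subgroup.mem_subgroupOf, w'] using this)
  have hpr : p ≠ r := fun e => S.w_not_mem (by
    have := QuotientGroup.eq.1 e
    simp only [B, Subgroup.mem_subgroupOf, inv_one, one_mul, Subgroup.coe_mul, e', w'] at this
    simpa using mul_mem (inv_mem (S.E_le S.uE)) this)
  have hqr : q ≠ r := fun e => S.u1 (S.wEw S.uE (by
    have := QuotientGroup.eq.1 e
    simp only [B, Subgroup.mem_subgroupOf, Subgroup.coe_mul, InvMemClass.coe_inv, e', w', hww] at this
    rwa [← mul_assoc] at this))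
  let tr : Fin 3 ↪ α := ⟨![p, q, r], by
    intro a b h
    fin_cases a <;> fin_cases b
    all_goals first
      | rfl
      | exact absurd h hpq
      | exact absurd h.symm hpq
      | exact absurd h hpr
      | exact absurd h.symm hpr
      | exact absurd h hqr
      | exact absurd h.symm hqr⟩
  have hstab : MulAction.stabilizer ↥S.big tr = ⊥ := by
    rw [Subgroup.eq_bot_iff_forall]
    intro g hg
    have h : ∀ i, g • tr i = tr i := fun i => by
      conv_rhs => rw [← MulAction.mem_stabilizer_iff.1 hg]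
      rfl
    exact hpqr g (h 0) (h 1) (h 2)
  have horb : MulAction.orbit ↥S.big tr = Set.univ := by
    have hc := (MulAction.stabilizer ↥S.big tr).index_mul_card
    rw [MulAction.index_stabilizer, hstab, Subgroup.card_bot, mul_one, S.card_big] at hc
    refine Set.eq_of_subset_of_ncard_le (Set.subset_univ _) ?_ (Set.toFinite _)
    rw [hc, Set.ncard_univ, Nat.card_eq_fintype_card, Fintype.card_embedding_eq, hα, Fintype.card_fin]
    rfl
  have hsharp0 : ∀ (x : Fin 3 ↪ α) (g : ↥S.big), g • x = x → g = 1 := by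
    intro x g hg
    obtain ⟨a, rfl⟩ : x ∈ MulAction.orbit ↥S.big tr := horb ▸ Set.mem_univ x
    have : a⁻¹ * g * a ∈ MulAction.stabilizer ↥S.big tr := by
      rw [MulAction.mem_stabilizer_iff, mul_smul, mul_smul, hg, inv_smul_smul]
    rw [hstab, Subgroup.mem_bot] at this
    calc g = a * (a⁻¹ * g * a) * a⁻¹ := by group
      _ = 1 := by rw [this]; group
  let φ : ↥S.big →* Equiv.Perm α := MulAction.toPermHom ↥S.big α
  have hsmul : ∀ (g : ↥S.big) (x : Fin 3 ↪ α), φ.rangeRestrict g • x = g • x := fun g x =>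
    Function.Embedding.ext fun i => rfl
  have hinj : Function.Injective φ := (injective_iff_map_eq_one φ).2 fun g hg => hsharp0 tr g
    (Function.Embedding.ext fun i => by
      show φ g (tr i) = tr i
      rw [hg]; rfl)
  have h3 : MulAction.IsMultiplyPretransitive φ.range α 3 := by
    refine ⟨fun x y => ?_⟩
    obtain ⟨a, ha⟩ : x ∈ MulAction.orbit ↥S.big tr := horb ▸ Set.mem_univ x
    obtain ⟨b, hb⟩ : y ∈ MulAction.orbit ↥S.big tr := horb ▸ Set.mem_univ y
    refine ⟨φ.rangeRestrict (b * a⁻¹), ?_⟩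
    rw [hsmul, ← ha, ← hb, mul_smul, inv_smul_smul]
  have hsharp : ∀ x : Fin 3 ↪ α, MulAction.stabilizer φ.range x = ⊥ := by
    intro x
    rw [Subgroup.eq_bot_iff_forall]
    rintro ⟨_, g, rfl⟩ hg
    rw [MulAction.mem_stabilizer_iff] at hg
    change φ.rangeRestrict g • x = x at hg
    rw [hsmul] at hg
    exact Subtype.ext (show φ g = 1 by rw [hsharp0 x g hg, map_one])
  obtain ⟨K, iK, iF, hK, ⟨e⟩⟩ := Cfsg.Agent.S0727.result (α := α) (f := 4) (by norm_num) hα φ.range h3 hsharp
  haveI : CharP K 2 := charP_of_card_eq_prime_pow (f := 4) hK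
  obtain ⟨e1⟩ := CfsgLib.Perm.SharpThreeOdd.psl_equiv_sl (F := K)
  obtain ⟨e2⟩ := CfsgLib.Perm.SharpThreeOdd.psl_equiv_pgl (F := K)
  exact ⟨K, iK, iF, hK, ⟨((MonoidHom.ofInjective hinj).trans e).trans (e2.symm.trans e1)⟩⟩

set_option maxHeartbeats 1000000 in
/-- The extension by an involution normalising everything. -/
theorem exists_extension (S : Steinberg E d w u) {i : G} (hi : i * i = 1)
    (hE : i ∈ Subgroup.normalizer ((E : Subgroup G) : Set G)) (hd : ∃ n : ℕ, i * d * i = d ^ n)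
    (hw : i * w = w * i) (hiE : i ∉ E) :
    ∃ (H : Subgroup G) (N : Subgroup H) (K : Type) (_ : Field K) (_ : Fintype K), N.Normal ∧ N.index = 2 ∧
      Fintype.card K = 16 ∧ Nonempty (N ≃* Matrix.SpecialLinearGroup (Fin 2) K) := by
  classical
  obtain ⟨n, hn⟩ := hd
  have hii : i⁻¹ = i := inv_eq_of_mul_eq_one_right hi
  have hEi : ∀ {x : G}, x ∈ E → i * x * i ∈ E := fun hx => by
    have := (Subgroup.mem_normalizer_iff.1 hE _).1 hx
    rwa [hii] at this
  have hB : ∀ b ∈ S.borel, i * b * i ∈ S.borel := by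
    rintro _ ⟨e, he, k, rfl⟩
    refine ⟨i * e * i, hEi he, n * k, ?_⟩
    have : i * d ^ k * i = d ^ (n * k) := by
      nth_rewrite 2 [← hii]
      rw [← conj_pow, hii, hn, pow_mul]
    calc i * (e * d ^ k) * i = i * e * (i * i) * d ^ k * i := by rw [hi]; group
      _ = i * e * i * (i * d ^ k * i) := by group
      _ = _ := by rw [this]
  have hnorm : ∀ g ∈ S.big, i * g * i ∈ S.big := by
    rintro g (hg | ⟨b, hb, e, he, rfl⟩)
    · exact Or.inl (hB g hg)
    · refine Or.inr ⟨i * b * i, hB b hb, i * e * i, hEi he, ?_⟩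
      calc i * (b * w * e) * i = i * b * (i * i) * w * e * i := by rw [hi]; group
        _ = i * b * i * (i * w) * e * i := by group
        _ = _ := by rw [hw]; group
  have hiN : i ∉ S.big := by
    rintro (hb | ⟨b, hb, e, he, hbe⟩)
    · exact hiE (S.borel_invol hb hi)
    · -- `w` would normalise `E`
      have hbn : b ∈ Subgroup.normalizer ((E : Subgroup G) : Set G) := by
        obtain ⟨f, hf, k, rfl⟩ := hb
        exact mul_mem (Subgroup.le_normalizer hf) (pow_mem S.norm k)
      have hwn : w ∈ Subgroup.normalizer ((E : Subgroup G) : Set G) := by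
        rw [show w = b⁻¹ * i * e⁻¹ by rw [hbe]; group]
        exact mul_mem (mul_mem (inv_mem hbn) hE) (inv_mem (Subgroup.le_normalizer he))
      have h1 := (Subgroup.mem_normalizer_iff.1 hwn u).1 S.uE
      rw [inv_eq_of_mul_eq_one_right S.w2] at h1
      exact S.u1 (S.wEw S.uE (S.E_le h1))
  let H : Subgroup G :=
    { carrier := {g | g ∈ S.big ∨ g * i ∈ S.big}
      one_mem' := Or.inl (one_mem _)
      mul_mem' := by
        rintro a b (ha | ha) (hb | hb)
        · exact Or.inl (mul_mem ha hb)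
        · exact Or.inr (by rw [mul_assoc]; exact mul_mem ha hb)
        · refine Or.inr ?_
          rw [show a * b * i = (a * i) * (i * b * i) by
            calc a * b * i = a * (i * i) * b * i := by rw [hi]; group
              _ = _ := by group]
          exact mul_mem ha (hnorm b hb)
        · refine Or.inl ?_
          rw [show a * b = (a * i) * (i * (b * i) * i) by
            calc a * b = a * (i * i) * b * (i * i) := by rw [hi]; group
              _ = _ := by group]
          exact mul_mem ha (hnorm _ hb)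
      inv_mem' := by
        rintro a (ha | ha)
        · exact Or.inl (inv_mem ha)
        · refine Or.inr ?_
          rw [show a⁻¹ * i = i * (a * i)⁻¹ * i by rw [mul_inv_rev, hii, ← mul_assoc, hi, one_mul]]
          exact hnorm _ (inv_mem ha) }
  have hle : S.big ≤ H := fun g hg => Or.inl hg
  have hindex : (S.big.subgroupOf H).index = 2 := by
    rw [Subgroup.index_eq_two_iff]
    refine ⟨⟨i, Or.inr (by rw [hi]; exact one_mem _)⟩, fun b => ?_⟩
    simp only [Subgroup.mem_subgroupOf, Subgroup.coe_mul]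
    rcases b.2 with hb | hb
    · exact Or.inr ⟨hb, fun h => hiN ((Subgroup.mul_mem_cancel_left _ hb).1 h)⟩
    · refine Or.inl ⟨hb, fun h => hiN ((Subgroup.mul_mem_cancel_left _ h).1 hb)⟩
  obtain ⟨K, iK, iF, hK, ⟨e⟩⟩ := S.exists_iso
  exact ⟨H, S.big.subgroupOf H, K, iK, iF, Subgroup.normal_of_index_eq_two hindex, hindex, hK,
    ⟨(Subgroup.subgroupOfEquivOfLe hle).trans e⟩⟩

end Steinberg

end CfsgLib.Sporadic.J3Linear
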