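import Mathlib

/-!
# Five commuting involutions with product one braiding with the same involution

The relations are those of the affine diagram `D₄` with an extra one, which forces two of the five to be equal.
-/

set_option autoImplicit false

namespace CfsgLib.Sporadic.J3Linear

variable {G : Type*} [Group G]

theorem braid {s x : G} (hs : s * s = 1) (hx : x * x = 1) (h : (s * x) ^ 3 = 1) : s * x * s = x * s * x := by
  have e1 : s * x * s * (x * s * x) = 1 := by rw [← h, pow_succ, pow_two]; group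
  have e2 : (x * s * x) * (x * s * x) = 1 := by
    calc x * s * x * (x * s * x) = x * s * (x * x) * s * x := by group
      _ = x * (s * s) * x := by rw [hx]; group
      _ = 1 := by rw [hs, mul_one, hx]
  exact (eq_inv_of_mul_eq_one_left e1).trans (inv_eq_of_mul_eq_one_right e2)

/-- If an involution braids with five commuting involutions of product one, two of them coincide. -/
theorem star_collapse {s x₁ x₂ x₃ x₄ x₅ : G} (hs : s * s = 1)
    (h1 : x₁ * x₁ = 1) (h2 : x₂ * x₂ = 1) (h3 : x₃ * x₃ = 1) (h4 : x₄ * x₄ = 1) (h5 : x₅ * x₅ = 1)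
    (c12 : x₁ * x₂ = x₂ * x₁) (c13 : x₁ * x₃ = x₃ * x₁) (c23 : x₂ * x₃ = x₃ * x₂) (c45 : x₄ * x₅ = x₅ * x₄)
    (hprod : x₁ * x₂ * x₃ * x₄ * x₅ = 1)
    (b1 : (s * x₁) ^ 3 = 1) (b2 : (s * x₂) ^ 3 = 1) (b3 : (s * x₃) ^ 3 = 1) (b4 : (s * x₄) ^ 3 = 1)
    (b5 : (s * x₅) ^ 3 = 1) : x₄ = x₅ := by
  have hy : ∀ {a b : G}, a * b = b * a → a * a = 1 → b * b = 1 → (s * a) ^ 3 = 1 → (s * b) ^ 3 = 1 →
      Commute s (a * b * s * (a * b)⁻¹) := by
    intro a b hab ha hb ba bb
    have hc : Commute (a * s * a) (b * s * b) := by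
      rw [← braid hs ha ba, ← braid hs hb bb]
      show s * a * s * (s * b * s) = s * b * s * (s * a * s)
      calc s * a * s * (s * b * s) = s * a * (s * s) * b * s := by group
        _ = s * (a * b) * s := by rw [hs]; group
        _ = s * (b * a) * s := by rw [hab]
        _ = s * b * (s * s) * a * s := by rw [hs]; group
        _ = _ := by group
    have hi : (a * b)⁻¹ = b * a := by
      rw [mul_inv_rev, inv_eq_of_mul_eq_one_right ha, inv_eq_of_mul_eq_one_right hb]
    rw [hi]
    have e := hc.eq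
    show s * (a * b * s * (b * a)) = a * b * s * (b * a) * s
    calc s * (a * b * s * (b * a)) = (a * a) * s * (a * b * s * b * a) := by rw [ha]; group
      _ = a * (a * s * a * (b * s * b)) * a := by group
      _ = a * (b * s * b * (a * s * a)) * a := by rw [e]
      _ = a * b * s * (b * a) * s * (a * a) := by group
      _ = _ := by rw [ha, mul_one]
  -- the order three from three of them
  set s' := x₂ * x₃ * s * (x₂ * x₃)⁻¹ with hs'
  have hs'2 : s' * s' = 1 := by
    calc s' * s' = x₂ * x₃ * (s * s) * (x₂ * x₃)⁻¹ := by rw [hs']; group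
      _ = 1 := by rw [hs]; group
  have hc' : Commute s s' := hy c23 h2 h3 b2 b3
  have hc1 : Commute x₁ (x₂ * x₃) := (show Commute x₁ x₂ from c12).mul_right (show Commute x₁ x₃ from c13)
  set z := s * (x₁ * s' * x₁) with hz
  have hz3 : z ^ 3 = 1 := by
    have e1 : z = x₁ * (x₁ * s * x₁ * s') * x₁ := by
      rw [hz]
      calc s * (x₁ * s' * x₁) = x₁ * x₁ * s * (x₁ * s' * x₁) := by rw [h1]; group
        _ = _ := by group
    have e2 : x₁ * s * x₁ * s' = s * (x₁ * s') * s := by
      rw [← braid hs h1 b1]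
      calc s * x₁ * s * s' = s * x₁ * (s * s') := by group
        _ = s * x₁ * (s' * s) := by rw [hc'.eq]
        _ = _ := by group
    have e3 : x₁ * s' = x₂ * x₃ * (x₁ * s) * (x₂ * x₃)⁻¹ := by
      rw [hs']
      calc x₁ * (x₂ * x₃ * s * (x₂ * x₃)⁻¹) = x₁ * (x₂ * x₃) * s * (x₂ * x₃)⁻¹ := by group
        _ = x₂ * x₃ * x₁ * s * (x₂ * x₃)⁻¹ := by rw [hc1.eq]
        _ = _ := by group
    have e4 : (x₁ * s) ^ 3 = 1 := by
      have : x₁ * s = s * (s * x₁) * s⁻¹ := by
        calc x₁ * s = (s * s) * x₁ * s := by rw [hs, one_mul]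
          _ = s * (s * x₁) * s := by group
          _ = _ := by rw [inv_eq_of_mul_eq_one_right hs]
      rw [this, conj_pow, b1]; group
    have e5 : z = (x₁ * s * (x₂ * x₃)) * (x₁ * s) * (x₁ * s * (x₂ * x₃))⁻¹ := by
      rw [e1, e2, e3]
      simp only [mul_inv_rev, inv_eq_of_mul_eq_one_right hs, inv_eq_of_mul_eq_one_right h1]
      group
    rw [e5, conj_pow, e4]; group
  -- the commutation from the other two
  have h45 : x₁ * (x₂ * x₃) = x₄ * x₅ := by
    have e : x₁ * x₂ * x₃ = (x₄ * x₅)⁻¹ := eq_inv_of_mul_eq_one_left (by simpa [mul_assoc] using hprod)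
    rw [← mul_assoc, e, mul_inv_rev, inv_eq_of_mul_eq_one_right h4, inv_eq_of_mul_eq_one_right h5, c45]
  have hw : x₁ * s' * x₁ = x₄ * x₅ * s * (x₄ * x₅)⁻¹ := by
    rw [← h45, hs', mul_inv_rev x₁, inv_eq_of_mul_eq_one_right h1]; group
  have hz2 : z * z = 1 := by
    rw [hz, hw]
    set w := x₄ * x₅ * s * (x₄ * x₅)⁻¹
    have hwc : Commute s w := hy c45 h4 h5 b4 b5
    calc s * w * (s * w) = s * (w * s) * w := by group
      _ = s * (s * w) * w := by rw [hwc.eq]
      _ = (s * s) * (w * w) := by group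
      _ = 1 := by
        rw [hs, one_mul]
        show x₄ * x₅ * s * (x₄ * x₅)⁻¹ * (x₄ * x₅ * s * (x₄ * x₅)⁻¹) = 1
        calc _ = x₄ * x₅ * (s * s) * (x₄ * x₅)⁻¹ := by group
          _ = 1 := by rw [hs]; group
  have hz1 : z = 1 := by
    rw [pow_succ, pow_two, hz2, one_mul] at hz3
    exact hz3
  rw [hz, hw] at hz1
  have hcomm : x₄ * x₅ * s = s * (x₄ * x₅) := by
    have := eq_inv_of_mul_eq_one_right hz1
    rw [inv_eq_of_mul_eq_one_right hs] at this
    exact mul_inv_eq_iff_eq_mul.1 this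
  have e : x₄ * s * x₄ = x₅ * s * x₅ := by
    calc x₄ * s * x₄ = x₄ * s * (x₄ * x₅) * x₅ := by
          rw [show x₄ * s * (x₄ * x₅) * x₅ = x₄ * s * x₄ * (x₅ * x₅) by group, h5, mul_one]
      _ = x₄ * (x₄ * x₅ * s) * x₅ := by rw [hcomm]; group
      _ = x₄ * x₄ * (x₅ * s * x₅) := by group
      _ = _ := by rw [h4, one_mul]
  rw [← braid hs h4 b4, ← braid hs h5 b5] at e
  exact mul_left_cancel (mul_right_cancel e)

end CfsgLib.Sporadic.J3Linear
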