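import Cfsg.Agent.Lib.Sporadic.J3Linear.Cent
import Cfsg.Agent.Lib.Sporadic.J3Linear.Recog
import Cfsg.Agent.Lib.Sporadic.J3Linear.Star

/-!
# A group of J₃ type contains `SL(2,16):2`
-/

set_option autoImplicit false
set_option maxRecDepth 100000
set_option linter.style.haveILetI false
set_option linter.unusedSectionVars false

namespace CfsgLib.Sporadic.J3Linear

open CfsgLib.SmallGroups.J3Order (Loc mul)
open Data Subgroup

variable {G : Type*} [Group G] [Finite G] {t : G} {ρ : ℕ → G}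

theorem three_class : ((List.range 1920).all fun j => !(mul (mul j j) j == 0) || j == 0 ||
    (List.range 1920).any fun g => mul g 2 == mul j g || mul g (mul 2 2) == mul j g) = true := by
  decide +kernel

/-- A conjugate of a model is a model. -/
theorem loc_conj (h : Loc t ρ) (g : G) : Loc (g * t * g⁻¹) (fun i => g * ρ i * g⁻¹) where
  ht := by
    rw [show g * t * g⁻¹ = MulAut.conj g t from rfl, MulEquiv.orderOf_eq]; exact h.ht
  mul := fun i hi j hj => by
    show g * ρ (mul i j) * g⁻¹ = g * ρ i * g⁻¹ * (g * ρ j * g⁻¹)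
    rw [h.mul i hi j hj]; group
  lt := h.lt
  inj := fun i hi j hj e => h.inj i hi j hj (mul_left_cancel (mul_right_cancel e))
  cover := fun x hx => by
    have hx' : g⁻¹ * x * g * t = t * (g⁻¹ * x * g) := by
      calc g⁻¹ * x * g * t = g⁻¹ * (x * (g * t * g⁻¹)) * g := by group
        _ = g⁻¹ * (g * t * g⁻¹ * x) * g := by rw [hx]
        _ = _ := by group
    obtain ⟨i, hi, e⟩ := h.cover _ hx'
    exact ⟨i, hi, by show g * ρ i * g⁻¹ = x; rw [e]; group⟩
  comm := fun i hi => by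
    calc g * ρ i * g⁻¹ * (g * t * g⁻¹) = g * (ρ i * t) * g⁻¹ := by group
      _ = g * (t * ρ i) * g⁻¹ := by rw [h.comm i hi]
      _ = _ := by group
  one := by show g * ρ 0 * g⁻¹ = 1; rw [h.one]; group
  centre := by show g * ρ 960 * g⁻¹ = _; rw [h.centre]

/-- Generators of the subgroup found from a frame through `t`. -/
structure Gens (t : G) (ρ : ℕ → G) (E : Subgroup G) (f s u : G) : Prop where
  frame : Frame E (ρ 2)
  tD : t ∈ dGrp E (ρ 2)
  model : ∃ p ∈ fL, s = ρ (p.getD 3 0) ∧ u = ρ (p.getD 4 0) ∧ (∀ k, p.getD k 0 < 1920) ∧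
    ρ (p.getD 1 0) = ρ 2 * ρ (p.getD 0 0) * (ρ 2)⁻¹ ∧
    ρ (p.getD 0 0) ∈ E ∧ ρ (p.getD 0 0) ≠ 1 ∧
    ∀ y ∈ E, y ≠ 1 → y * t = t * y → ∃ x ∈ [p.getD 0 0, p.getD 1 0, p.getD 2 0], ρ x = y
  st : s * t = t * s
  ut : u * t = t * u
  scs : s * ρ 2 * s = (ρ 2)⁻¹
  fD : f ∈ dGrp E (ρ 2)
  fo : orderOf f = 5
  sfs : s * f * s = f⁻¹
  tft : t * f * t = f⁻¹
  stein : Steinberg E (ρ 2 * f) s u
  tdt : t * (ρ 2 * f) * t = (ρ 2 * f) ^ 4
  notE : t ∉ E
  cardY : Nat.card ↥(Subgroup.centralizer ({ρ 2} : Set G)) = 1080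

set_option maxHeartbeats 2000000 in
/-- The generators, from a frame through `t`. -/
theorem exists_gens (h : Loc t ρ) {E : Subgroup G} (F : Frame E (ρ 2)) (ht : t ∈ dGrp E (ρ 2)) :
    ∃ f s u : G, Gens t ρ E f s u := by
  classical
  set c := ρ 2 with hcdef
  have htt : t * t = 1 := by
    have := pow_orderOf_eq_one t
    rwa [h.ht, pow_two] at this
  have hti : t⁻¹ = t := inv_eq_of_mul_eq_one_right htt
  have htN := ht.1
  have htc : t * c = c * t := mem_cent.1 ht.2
  have hoc := F.oc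
  have hc3 : c ^ 3 = 1 := hoc ▸ pow_orderOf_eq_one c
  have hci : c⁻¹ = c * c := inv_eq_of_mul_eq_one_right (by rw [← hc3, pow_succ, pow_two]; group)
  have hEcomm : ∀ x ∈ E, ∀ y ∈ E, x * y = y * x := by
    intro x hx y hy
    have e1 := F.sq _ (mul_mem hx hy)
    calc x * y = (x * y)⁻¹ := (inv_eq_of_mul_eq_one_right e1).symm
      _ = y⁻¹ * x⁻¹ := mul_inv_rev x y
      _ = y * x := by rw [inv_eq_of_mul_eq_one_right (F.sq x hx), inv_eq_of_mul_eq_one_right (F.sq y hy)]
  have hcE : ∀ {x : G}, x ∈ E → c * x * c⁻¹ ∈ E := fun hx => (Subgroup.mem_normalizer_iff.1 F.mem _).1 hx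
  have h2 : mul 2 2 < 1920 := h.lt _ (by norm_num) _ (by norm_num)
  have hρ22 : ρ (mul 2 2) = c⁻¹ := by rw [h.mul _ (by norm_num) _ (by norm_num), hci]
  -- the fixed points of `t`
  have hhead : ∀ y ∈ E, y ≠ 1 → y * t = t * y → ∃ p ∈ fL, ρ (p.getD 0 0) = y ∧ p.getD 0 0 < 1920 := by
    intro y hy hy1 hyt
    obtain ⟨f, hf, rfl⟩ := h.cover y hyt
    have hs := f_spec
    simp only [List.all_eq_true, List.mem_range, Bool.or_eq_true, Bool.not_eq_true', beq_eq_false_iff_ne,
      beq_iff_eq, ne_eq, List.any_eq_true] at hs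
    have la := h.lt _ (h.lt _ (by norm_num : 2 < 1920) _ hf) _ h2
    have ha : ρ (mul (mul 2 f) (mul 2 2)) = c * ρ f * c⁻¹ := by
      rw [h.mul _ (h.lt _ (by norm_num) _ hf) _ h2, hρ22, h.mul _ (by norm_num) _ hf]
    have hb : ρ (mul (mul 2 (mul (mul 2 f) (mul 2 2))) (mul 2 2)) = c * (c * ρ f * c⁻¹) * c⁻¹ := by
      rw [h.mul _ (h.lt _ (by norm_num) _ la) _ h2, hρ22, h.mul _ (by norm_num) _ la, ha]
    rcases hs f hf with ((e | e) | (((e | e) | e) | e))
    · exact absurd ((mul_eq_one_iff h hf hf).2 (F.sq _ hy)) e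
    · exact absurd ((eq_one_iff h hf).2 e) hy1
    · exfalso
      have e' := congrArg ρ e
      rw [ha, mul_inv_eq_iff_eq_mul] at e'
      exact hy1 (F.fpf _ hy e')
    · exact absurd ((eq_iff h hf la la hf).2 (by rw [ha]; exact hEcomm _ hy _ (hcE hy))) e
    · exfalso
      apply e
      rw [mul_eq_one_iff h (h.lt _ hf _ la) (h.lt _ (h.lt _ (by norm_num) _ la) _ h2), h.mul _ hf _ la, ha, hb]
      set y := ρ f
      refine F.fpf _ (mul_mem (mul_mem hy (hcE hy)) (hcE (hcE hy))) (mul_inv_eq_iff_eq_mul.1 ?_)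
      have h3 : c * (c * (c * y * c⁻¹) * c⁻¹) * c⁻¹ = y := by
        calc c * (c * (c * y * c⁻¹) * c⁻¹) * c⁻¹ = c ^ 3 * y * (c ^ 3)⁻¹ := by rw [pow_succ, pow_two]; group
          _ = y := by rw [hc3]; group
      calc c * (y * (c * y * c⁻¹) * (c * (c * y * c⁻¹) * c⁻¹)) * c⁻¹
          = c * y * c⁻¹ * (c * (c * y * c⁻¹) * c⁻¹) * (c * (c * (c * y * c⁻¹) * c⁻¹) * c⁻¹) := by group
        _ = c * y * c⁻¹ * (c * (c * y * c⁻¹) * c⁻¹) * y := by rw [h3]
        _ = y * (c * y * c⁻¹ * (c * (c * y * c⁻¹) * c⁻¹)) := hEcomm _ (mul_mem (hcE hy) (hcE (hcE hy))) _ hy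
        _ = _ := by group
    · obtain ⟨p, hp, hpf⟩ := e
      exact ⟨p, hp, by rw [hpf], by rw [hpf]; exact hf⟩
  obtain ⟨y₀, hy₀, hy₀1, hy₀t⟩ : ∃ y ∈ E, y ≠ 1 ∧ y * t = t * y := by
    obtain ⟨e, he⟩ : ∃ e : ↥E, e ≠ 1 := by
      haveI : Nontrivial ↥E := Finite.one_lt_card_iff_nontrivial.1 (by rw [F.card]; norm_num)
      exact exists_ne 1
    have he' : (e : G) ≠ 1 := fun e' => he (Subtype.ext e')
    have hte : t * (e : G) * t ∈ E := by
      have := (Subgroup.mem_normalizer_iff.1 htN _).1 e.2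
      rwa [hti] at this
    by_cases hx : (e : G) * (t * e * t) = 1
    · refine ⟨e, e.2, he', ?_⟩
      have e1 : t * (e : G) * t = e := (eq_inv_of_mul_eq_one_right hx).trans (inv_eq_of_mul_eq_one_right (F.sq _ e.2))
      calc (e : G) * t = t * e * t * t := by rw [e1]
        _ = _ := by rw [mul_assoc, htt, mul_one]
    · refine ⟨_, mul_mem e.2 hte, hx, ?_⟩
      calc (e : G) * (t * e * t) * t = (e : G) * t * e * (t * t) := by group
        _ = t * (t * e * t) * e := by
            rw [htt, mul_one, show t * (t * (e : G) * t) * e = (t * t) * e * t * e by group, htt, one_mul]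
        _ = t * ((t * e * t) * e) := by group
        _ = _ := by rw [hEcomm _ hte _ e.2]
  obtain ⟨p, hp, hpy, -⟩ := hhead y₀ hy₀ hy₀1 hy₀t
  have hs := fL_spec
  simp only [List.all_eq_true, Bool.and_eq_true, beq_iff_eq, decide_eq_true_eq, Bool.or_eq_true, List.any_eq_true,
    List.contains_iff_mem, Bool.not_eq_true', beq_eq_false_iff_ne, ne_eq, List.any_eq_false] at hs
  obtain ⟨⟨⟨⟨⟨⟨⟨⟨⟨hlt, haf⟩, hbf⟩, hss⟩, hs0⟩, hsc⟩, huF⟩, hsu⟩, hsep⟩, hq⟩ := hs p hp
  set nf := p.getD 0 0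
  set na := p.getD 1 0
  set nb := p.getD 2 0
  set ns := p.getD 3 0
  set nu := p.getD 4 0
  have hget : ∀ k, p.getD k 0 < 1920 := fun k => by
    by_cases hk : k < p.length
    · rw [List.getD_eq_getElem (hn := hk)]; exact hlt _ (List.getElem_mem hk)
    · rw [List.getD_eq_default (hn := by omega)]; norm_num
  have hFa : ρ na = c * ρ nf * c⁻¹ := by
    rw [eq_mul_inv_iff_mul_eq]
    exact ((eq_iff h (by norm_num) (hget 0) (hget 1) (by norm_num)).1 haf).symm
  have hFb : ρ nb = c * ρ na * c⁻¹ := by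
    rw [eq_mul_inv_iff_mul_eq]
    exact ((eq_iff h (by norm_num) (hget 1) (hget 2) (by norm_num)).1 hbf).symm
  have hFl : ∀ x ∈ [nf, na, nb], x < 1920 ∧ ρ x ∈ E ∧ ρ x ≠ 1 ∧ ρ x * t = t * ρ x := by
    have h0 : nf < 1920 ∧ ρ nf ∈ E ∧ ρ nf ≠ 1 ∧ ρ nf * t = t * ρ nf :=
      ⟨hget 0, hpy ▸ hy₀, hpy ▸ hy₀1, h.comm _ (hget 0)⟩
    have h1 : na < 1920 ∧ ρ na ∈ E ∧ ρ na ≠ 1 ∧ ρ na * t = t * ρ na :=
      ⟨hget 1, hFa ▸ hcE h0.2.1, fun e => h0.2.2.1 (conj_eq_one_iff.1 (hFa ▸ e)), h.comm _ (hget 1)⟩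
    intro x hx
    simp only [List.mem_cons, List.not_mem_nil, or_false] at hx
    rcases hx with rfl | rfl | rfl
    · exact h0
    · exact h1
    · exact ⟨hget 2, hFb ▸ hcE h1.2.1, fun e => h1.2.2.1 (conj_eq_one_iff.1 (hFb ▸ e)), h.comm _ (hget 2)⟩
  have hfix : ∀ y ∈ E, y ≠ 1 → y * t = t * y → ∃ x ∈ [nf, na, nb], ρ x = y := by
    intro y hy hy1 hyt
    obtain ⟨p', hp', hpy', hl'⟩ := hhead y hy hy1 hyt
    rcases hsep p' hp' with e | e
    · exact absurd ((eq_iff h (hget 0) hl' hl' (hget 0)).2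
        (by rw [hpy']; exact hEcomm _ (hFl nf (by simp)).2.1 _ hy)) e
    · exact ⟨_, e, hpy'⟩
  set s := ρ ns
  set u := ρ nu
  obtain ⟨-, huE, hu1, -⟩ := hFl nu huF
  have hs2 : s * s = 1 := (mul_eq_one_iff h (hget 3) (hget 3)).1 hss
  have hsi : s⁻¹ = s := inv_eq_of_mul_eq_one_right hs2
  have hst : s * t = t * s := h.comm _ (hget 3)
  have hsc' : s * c * s = c⁻¹ := by
    have e := (eq_iff h (hget 3) (by norm_num) h2 (hget 3)).1 hsc
    rw [e, hρ22, mul_assoc, hs2, mul_one]
  have hsu' : (s * u) ^ 3 = 1 := by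
    have l := h.lt _ (hget 3) _ (hget 4)
    have e := (mul_eq_one_iff h l (h.lt _ l _ l)).1 hsu
    rw [h.mul _ l _ l, h.mul _ (hget 3) _ (hget 4)] at e
    rw [pow_succ', pow_two]; exact e
  -- the two normalisers
  set D := dGrp E c
  set D2 := D.map (MulAut.conj s).toMonoidHom
  have hD2mem : ∀ {g : G}, g ∈ D2 ↔ s * g * s ∈ D := by
    intro g
    constructor
    · rintro ⟨x, hx, rfl⟩
      show s * (s * x * s⁻¹) * s ∈ D
      rwa [hsi, show s * (s * x * s) * s = (s * s) * x * (s * s) by group, hs2, one_mul, mul_one]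
    · intro hg
      refine ⟨_, hg, ?_⟩
      show s * (s * g * s) * s⁻¹ = g
      rw [hsi, show s * (s * g * s) * s = (s * s) * g * (s * s) by group, hs2, one_mul, mul_one]
  set Y := Subgroup.centralizer ({c} : Set G)
  have hD2Y : D2 ≤ Y := by
    intro g hg
    have h1 : Commute (s * g * s) c := mem_cent.1 (hD2mem.1 hg).2
    have h2' : Commute g (s * c * s) := by
      show g * (s * c * s) = s * c * s * g
      calc g * (s * c * s) = s * ((s * g * s) * c) * s := by
            rw [show s * ((s * g * s) * c) * s = (s * s) * (g * (s * c * s)) by group, hs2, one_mul]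
        _ = s * (c * (s * g * s)) * s := by rw [h1.eq]
        _ = s * c * s * g * (s * s) := by group
        _ = _ := by rw [hs2, mul_one]
    rw [hsc'] at h2'
    exact mem_cent.2 (Commute.inv_right_iff.1 h2').eq
  set I := D ⊓ D2
  have hD2c : Nat.card D2 = 180 := (Subgroup.card_map_of_injective (MulAut.conj s).injective).trans F.cardD
  have hY : Nat.card ↥Y ≤ 1080 := card_cent_le h F ht
  have hkey : 30 ≤ Nat.card I ∧ (Nat.card I = 30 → Nat.card ↥Y = 1080) := by
    have e : ∀ {K : Subgroup G}, K ≤ Y → K.relIndex Y * Nat.card K = Nat.card Y := fun {K} hK => by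
      rw [← Nat.card_congr (Subgroup.subgroupOfEquivOfLe hK).toEquiv]
      exact (K.subgroupOf Y).index_mul_card
    have e1 : D.relIndex Y * 180 = Nat.card Y := F.cardD ▸ e (inf_le_right : D ≤ Y)
    have e2 : D2.relIndex Y * 180 = Nat.card Y := hD2c ▸ e hD2Y
    have e3 := e (show I ≤ Y from fun g hg => hg.1.2)
    have e4 : I.relIndex Y ≤ D.relIndex Y * D2.relIndex Y := Subgroup.relIndex_inf_le
    have hk : D.relIndex Y ≤ 6 := by omega
    have hk2 : D2.relIndex Y = D.relIndex Y := by omega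
    rw [hk2] at e4
    have hpos : 0 < D.relIndex Y := by
      rcases Nat.eq_zero_or_pos (D.relIndex Y) with e0 | e0
      · rw [e0, zero_mul] at e1
        exact absurd e1.symm Nat.card_pos.ne'
      · exact e0
    refine ⟨by nlinarith [Nat.mul_le_mul_right (Nat.card I) e4], fun hI => ?_⟩
    rw [hI] at e3
    interval_cases hq : D.relIndex Y <;> omega
  have hI30 := hkey.1
  have hcI : c ∈ I := by
    have hcD : c ∈ D := ⟨F.mem, mem_cent.2 rfl⟩
    exact ⟨hcD, hD2mem.2 (hsc' ▸ inv_mem hcD)⟩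
  have htI : t ∈ I := ⟨ht, hD2mem.2 (by rw [hst, mul_assoc, hs2, mul_one]; exact ht)⟩
  have hsI : ∀ g ∈ I, s * g * s ∈ I := by
    intro g hg
    refine ⟨hD2mem.1 hg.2, hD2mem.2 ?_⟩
    rw [show s * (s * g * s) * s = (s * s) * g * (s * s) by group, hs2, one_mul, mul_one]
    exact hg.1
  have hI180 : Nat.card I ∣ 180 := F.cardD ▸ Subgroup.card_dvd_of_le inf_le_left
  have hI4 : ¬ 4 ∣ Nat.card I := by
    intro h4
    haveI : Fact (Nat.Prime 2) := ⟨Nat.prime_two⟩
    have hto : orderOf (⟨t, htI⟩ : ↥I) = 2 := by rw [Subgroup.orderOf_mk]; exact h.ht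
    obtain ⟨V, hV⟩ := (IsPGroup.of_card (G := Subgroup.zpowers (⟨t, htI⟩ : ↥I)) (p := 2) (n := 1)
      (by rw [Nat.card_zpowers, hto, pow_one])).exists_le_sylow
    have hV4 : Nat.card (V : Subgroup ↥I) = 2 ^ 2 := by
      obtain ⟨n, hn⟩ := IsPGroup.iff_card.1 V.2
      have h1 : 4 ∣ Nat.card (V : Subgroup ↥I) := by
        simpa using V.pow_dvd_card_of_pow_dvd_card (n := 2) (by simpa using h4)
      have h3 : Nat.card (V : Subgroup ↥I) ∣ 180 := (Subgroup.card_subgroup_dvd_card _).trans hI180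
      rw [hn] at h1 h3 ⊢
      rcases n with _ | _ | _ | n
      · norm_num at h1
      · norm_num at h1
      · rfl
      · exfalso
        have := (pow_dvd_pow 2 (show 3 ≤ n + 1 + 1 + 1 by omega)).trans h3
        norm_num at this
    haveI := IsPGroup.isMulCommutative_of_card_eq_prime_sq (p := 2) hV4
    have hsmall : ∀ v : ↥(V : Subgroup ↥I), ((v : ↥I) : G) = 1 ∨ ((v : ↥I) : G) = t := by
      intro v
      set q := ((v : ↥I) : G)
      have hqI : q ∈ I := (v : ↥I).2
      have hqt : q * t = t * q := congrArg (fun x : ↥(V : Subgroup ↥I) => ((x : ↥I) : G))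
        (IsMulCommutative.is_comm.comm v ⟨⟨t, htI⟩, hV (Subgroup.mem_zpowers _)⟩)
      have hq4 : q ^ 4 = 1 := by
        have hd := orderOf_dvd_natCard v
        rw [hV4, ← Subgroup.orderOf_coe, ← Subgroup.orderOf_coe] at hd
        exact orderOf_dvd_iff_pow_eq_one.1 hd
      obtain ⟨iq, hiq, hiqe⟩ := h.cover q hqt
      have hiqc : iq ∈ cL := (mem_cL h hiq).2 (by rw [hiqe]; exact mem_cent.1 hqI.1.2)
      have hmove : ∀ r : G, r ∈ D → r * t = t * r → ∃ x ∈ [nf, na, nb], r * ρ nf = ρ x * r := by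
        intro r hr hrt
        obtain ⟨-, hfE, hf1, hft⟩ := hFl nf (by simp)
        obtain ⟨x, hx, e⟩ := hfix (r * ρ nf * r⁻¹) ((Subgroup.mem_normalizer_iff.1 hr.1 _).1 hfE)
          (fun e => hf1 (conj_eq_one_iff.1 e))
          (((show Commute r t from hrt).mul_left (show Commute (ρ nf) t from hft)).mul_left
            (show Commute r t from hrt).inv_left).eq
        exact ⟨x, hx, by rw [e]; group⟩
      rcases hq iq hiqc with ((((e | e) | e) | e) | e)
      · left; rw [← hiqe, e, h.one]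
      · right; rw [← hiqe, e, h.centre]
      · exfalso
        refine e ?_
        have l := h.lt _ hiq _ hiq
        rw [mul_eq_one_iff h l l, h.mul _ hiq _ hiq, hiqe, ← hq4]
        simp [pow_succ, mul_assoc]
      · exfalso
        obtain ⟨x, hx, hxe⟩ := hmove q hqI.1 hqt
        exact e x hx ((eq_iff h hiq (hget 0) (hFl x hx).1 hiq).2 (by rw [hiqe]; exact hxe))
      · exfalso
        have hr := hD2mem.1 hqI.2
        obtain ⟨x, hx, hxe⟩ := hmove (s * q * s) hr
          (((show Commute s t from hst).mul_left (show Commute q t from hqt)).mul_left (show Commute s t from hst)).eq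
        have hk : ∀ y, y < 1920 → mul (mul ns y) ns < 1920 ∧ ρ (mul (mul ns y) ns) = s * ρ y * s := fun y hy =>
          ⟨h.lt _ (h.lt _ (hget 3) _ hy) _ (hget 3), by
            rw [h.mul _ (h.lt _ (hget 3) _ hy) _ (hget 3), h.mul _ (hget 3) _ hy]⟩
        refine e x hx ((eq_iff h hiq (hk nf (hget 0)).1 (hk x (hFl x hx).1).1 hiq).2 ?_)
        rw [(hk nf (hget 0)).2, (hk x (hFl x hx).1).2, hiqe]
        calc q * (s * ρ nf * s) = (s * s) * q * (s * ρ nf * s) := by rw [hs2, one_mul]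
          _ = s * (s * q * s * ρ nf) * s := by group
          _ = s * (ρ x * (s * q * s)) * s := by rw [hxe]
          _ = s * ρ x * s * q * (s * s) := by group
          _ = _ := by rw [hs2, mul_one]
    have : Nat.card ↥(V : Subgroup ↥I) ≤ Nat.card Bool := Nat.card_le_card_of_injective
      (fun v => decide (((v : ↥I) : G) = 1)) (fun a b hab => by
        simp only [decide_eq_decide] at hab
        rcases hsmall a with ea | ea <;> rcases hsmall b with eb | eb
        · exact Subtype.ext (Subtype.ext (ea.trans eb.symm))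
        · exact Subtype.ext (Subtype.ext (ea.trans (hab.1 ea).symm))
        · exact Subtype.ext (Subtype.ext ((hab.2 eb).trans eb.symm))
        · exact Subtype.ext (Subtype.ext (ea.trans eb.symm)))
    rw [hV4, Nat.card_eq_fintype_card, Fintype.card_bool] at this
    norm_num at this
  have hI : Nat.card I = 30 := by
    have h3 : 3 ∣ Nat.card I := hoc ▸ Subgroup.orderOf_dvd_natCard I hcI
    have h2' : 2 ∣ Nat.card I := h.ht ▸ Subgroup.orderOf_dvd_natCard I htI
    have h90 : Nat.card I ≠ 90 := F.no90 I inf_le_left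
    have hle := Nat.le_of_dvd (by norm_num) hI180
    obtain ⟨k, hk⟩ := hI180
    interval_cases hn : Nat.card I <;> omega
  -- the element of order five
  haveI : Fact (Nat.Prime 5) := ⟨by norm_num⟩
  obtain ⟨P⟩ := (inferInstance : Nonempty (Sylow 5 ↥I))
  have hP : Nat.card (P : Subgroup ↥I) = 5 := by
    rw [P.card_eq_multiplicity, hI, Nat.factorization_def _ (Fact.out : Nat.Prime 5),
      show 30 = 5 ^ 1 * 6 from rfl, padicValNat.mul (by norm_num) (by norm_num), padicValNat.prime_pow,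
      padicValNat.eq_zero_of_not_dvd (by norm_num)]
    norm_num
  have hone5 : Nat.card (Sylow 5 ↥I) = 1 := by
    have hmod := card_sylow_modEq_one 5 ↥I
    have hdvd : Nat.card (Sylow 5 ↥I) ∣ 6 := by
      have := P.card_dvd_index
      have hi := (P : Subgroup ↥I).card_mul_index
      rw [hP, hI] at hi
      rwa [show (P : Subgroup ↥I).index = 6 by omega] at this
    have hne : Nat.card (Sylow 5 ↥I) ≠ 6 := by
      intro h6
      have hidx := P.card_eq_index_normalizer
      rw [h6] at hidx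
      have hN5 := (Subgroup.normalizer ((P : Subgroup ↥I) : Set ↥I)).card_mul_index
      rw [hI, show (Subgroup.normalizer ((P : Subgroup ↥I) : Set ↥I)).index = 6 from hidx.symm] at hN5
      have hcN : (⟨c, hcI⟩ : ↥I) ∈ Subgroup.normalizer ((P : Subgroup ↥I) : Set ↥I) := by
        refine Subgroup.mem_normalizer_iff.2 fun x => ?_
        rw [show (⟨c, hcI⟩ : ↥I) * x * (⟨c, hcI⟩ : ↥I)⁻¹ = x from Subtype.ext (by
          simp only [Subgroup.coe_mul, InvMemClass.coe_inv]
          rw [show c * (x : G) = (x : G) * c from (mem_cent.1 x.2.1.2).symm, mul_inv_cancel_right])]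
      have h3 := Subgroup.orderOf_dvd_natCard _ hcN
      rw [Subgroup.orderOf_mk, hoc] at h3
      omega
    have hle := Nat.le_of_dvd (by norm_num) hdvd
    unfold Nat.ModEq at hmod
    interval_cases hn : Nat.card (Sylow 5 ↥I) <;> omega
  haveI : Subsingleton (Sylow 5 ↥I) := (Nat.card_eq_one_iff_unique.1 hone5).1
  obtain ⟨fI, hfI⟩ := exists_prime_orderOf_dvd_card' (G := ↥(P : Subgroup ↥I)) 5 (by rw [hP])
  set f : G := ((fI : ↥I) : G)
  have hfo : orderOf f = 5 := by rw [Subgroup.orderOf_coe, Subgroup.orderOf_coe, hfI]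
  have hfmem : f ∈ I := (fI : ↥I).2
  have hpowf : ∀ g ∈ I, g ^ 5 = 1 → ∃ a < 5, g = f ^ a := by
    intro g hg hg5
    have hgP : (⟨g, hg⟩ : ↥I) ∈ (P : Subgroup ↥I) := by
      obtain ⟨T, hT⟩ := (show IsPGroup 5 (Subgroup.zpowers (⟨g, hg⟩ : ↥I)) from fun x => ⟨1, by
        obtain ⟨k, hk⟩ := x.2
        refine Subtype.ext ?_
        rw [SubmonoidClass.coe_pow, ← hk, pow_one, ← zpow_natCast, ← zpow_mul, mul_comm, zpow_mul, zpow_natCast,
          show (⟨g, hg⟩ : ↥I) ^ 5 = 1 from Subtype.ext (by simpa using hg5), one_zpow]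
        rfl⟩).exists_le_sylow
      rw [Subsingleton.elim T P] at hT
      exact hT (Subgroup.mem_zpowers _)
    have htop : Subgroup.zpowers fI = ⊤ := Subgroup.eq_top_of_card_eq _ (by rw [Nat.card_zpowers, hfI, hP])
    have hm : (⟨⟨g, hg⟩, hgP⟩ : ↥(P : Subgroup ↥I)) ∈ Subgroup.zpowers fI := htop ▸ Subgroup.mem_top _
    rw [mem_zpowers_iff_mem_range_orderOf, hfI, Finset.mem_image] at hm
    obtain ⟨a, ha, e⟩ := hm
    refine ⟨a, Finset.mem_range.1 ha, ?_⟩
    have := congrArg (fun z : ↥(P : Subgroup ↥I) => ((z : ↥I) : G)) e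
    simpa using this.symm
  have hf5 : f ^ 5 = 1 := hfo ▸ pow_orderOf_eq_one f
  have hsign : ∀ r : G, r * r = 1 → (∀ g ∈ I, r * g * r ∈ I) → r * f * r = f ∨ r * f * r = f⁻¹ := by
    intro r hr hrI
    have hri : r⁻¹ = r := inv_eq_of_mul_eq_one_right hr
    obtain ⟨a, ha, ea⟩ := hpowf _ (hrI f hfmem) (by
      nth_rewrite 2 [← hri]
      rw [conj_pow, hf5]; group)
    have hsq : f ^ (a * a) = f := by
      have e1 : r * f ^ a * r = (f ^ a) ^ a := by
        nth_rewrite 2 [← hri]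
        rw [← conj_pow, hri, ea]
      have e2 : r * f ^ a * r = f := by
        rw [← ea, show r * (r * f * r) * r = (r * r) * f * (r * r) by group, hr, one_mul, mul_one]
      rw [pow_mul]
      exact e1.symm.trans e2
    interval_cases a
    · exfalso
      rw [zero_mul, pow_zero] at hsq
      rw [← hsq, orderOf_one] at hfo; norm_num at hfo
    · left; rw [ea, pow_one]
    · exfalso
      have h3 : f ^ 3 = 1 := mul_left_cancel (a := f) (by rw [← pow_succ', hsq, mul_one])
      have := orderOf_dvd_of_pow_eq_one h3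
      rw [hfo] at this; norm_num at this
    · exfalso
      have h8 : f ^ 8 = 1 := mul_left_cancel (a := f) (by rw [← pow_succ', hsq, mul_one])
      have := orderOf_dvd_of_pow_eq_one h8
      rw [hfo] at this; norm_num at this
    · right
      rw [ea]
      exact (inv_eq_of_mul_eq_one_right (by rw [← pow_succ', hf5])).symm
  have hfN : f ∈ Subgroup.normalizer ((E : Subgroup G) : Set G) := hfmem.1.1
  have hfc : Commute c f := (mem_cent.1 hfmem.1.2).symm
  have htf : t * f * t = f⁻¹ := by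
    rcases hsign t htt (fun g hg => mul_mem (mul_mem htI hg) htI) with e | e
    · exfalso
      have : f * t = t * f := by
        calc f * t = t * f * t * t := by rw [e]
          _ = _ := by rw [mul_assoc, htt, mul_one]
      have hd := Subgroup.orderOf_dvd_natCard (Subgroup.centralizer ({t} : Set G) ⊓ Y)
        ⟨mem_cent.2 this, mem_cent.2 hfc.symm.eq⟩
      rw [hfo, card_cc h] at hd
      norm_num at hd
    · exact e
  have hsf : s * f * s = f⁻¹ := by
    rcases hsign s hs2 hsI with e | e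
    · exfalso
      have hcs : Commute s f := by
        show s * f = f * s
        calc s * f = s * f * (s * s) := by rw [hs2, mul_one]
          _ = s * f * s * s := by group
          _ = _ := by rw [e]
      let x : ℕ → G := fun k => f ^ k * u * (f ^ k)⁻¹
      have hxE : ∀ k, x k ∈ E := fun k => (Subgroup.mem_normalizer_iff.1 (pow_mem hfN k) u).1 huE
      have hxb : ∀ k, (s * x k) ^ 3 = 1 := by
        intro k
        have : s * x k = f ^ k * (s * u) * (f ^ k)⁻¹ := by
          show s * (f ^ k * u * (f ^ k)⁻¹) = _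
          rw [← mul_assoc, ← mul_assoc, (hcs.pow_right k).eq]; group
        rw [this, conj_pow, hsu']; group
      have hprod : x 0 * x 1 * x 2 * x 3 * x 4 = 1 := by
        refine F.five f hfN hfo _ (mul_mem (mul_mem (mul_mem (mul_mem (hxE 0) (hxE 1)) (hxE 2)) (hxE 3)) (hxE 4))
          (mul_inv_eq_iff_eq_mul.1 ?_)
        have hstep : ∀ k, f * x k * f⁻¹ = x (k + 1) := fun k => by
          show f * (f ^ k * u * (f ^ k)⁻¹) * f⁻¹ = f ^ (k + 1) * u * (f ^ (k + 1))⁻¹
          rw [pow_succ']; group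
        have h50 : x 5 = x 0 := by
          show f ^ 5 * u * (f ^ 5)⁻¹ = f ^ 0 * u * (f ^ 0)⁻¹
          rw [hf5, pow_zero]
        calc f * (x 0 * x 1 * x 2 * x 3 * x 4) * f⁻¹
            = (f * x 0 * f⁻¹) * (f * x 1 * f⁻¹) * (f * x 2 * f⁻¹) * (f * x 3 * f⁻¹) * (f * x 4 * f⁻¹) := by group
          _ = x 1 * x 2 * x 3 * x 4 * x 0 := by rw [hstep, hstep, hstep, hstep, hstep, h50]
          _ = x 0 * (x 1 * x 2 * x 3 * x 4) :=
              hEcomm _ (mul_mem (mul_mem (mul_mem (hxE 1) (hxE 2)) (hxE 3)) (hxE 4)) _ (hxE 0)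
          _ = _ := by group
      have h34 := star_collapse hs2 (F.sq _ (hxE 0)) (F.sq _ (hxE 1)) (F.sq _ (hxE 2)) (F.sq _ (hxE 3))
        (F.sq _ (hxE 4)) (hEcomm _ (hxE 0) _ (hxE 1)) (hEcomm _ (hxE 0) _ (hxE 2)) (hEcomm _ (hxE 1) _ (hxE 2))
        (hEcomm _ (hxE 3) _ (hxE 4)) hprod (hxb 0) (hxb 1) (hxb 2) (hxb 3) (hxb 4)
      refine hu1 (F.five f hfN hfo u huE (mul_inv_eq_iff_eq_mul.1 ?_))
      have h34' : f ^ 3 * u * (f ^ 3)⁻¹ = f ^ 4 * u * (f ^ 4)⁻¹ := h34
      calc f * u * f⁻¹ = (f ^ 3)⁻¹ * (f ^ 4 * u * (f ^ 4)⁻¹) * f ^ 3 := by group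
        _ = (f ^ 3)⁻¹ * (f ^ 3 * u * (f ^ 3)⁻¹) * f ^ 3 := by rw [← h34']
        _ = u := by group
    · exact e
  set d := c * f
  have hdo : orderOf d = 15 := by
    rw [hfc.orderOf_mul_eq_mul_orderOf_of_coprime (by rw [hoc, hfo]; norm_num), hoc, hfo]
  have hd15 : ∀ m : ℕ, d ^ m = c ^ (m % 3) * f ^ (m % 5) := fun m => by
    rw [hfc.mul_pow]
    congr 1
    · rw [← hoc]; exact (pow_mod_orderOf c m).symm
    · rw [← hfo]; exact (pow_mod_orderOf f m).symm
  have S : Steinberg E d s u :=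
    { card := F.card
      sq := F.sq
      od := hdo
      norm := mul_mem F.mem hfN
      w2 := hs2
      uE := huE
      u1 := hu1
      wu := hsu'
      inv := by
        show s * (c * f) * s = (c * f)⁻¹
        calc s * (c * f) * s = s * c * (s * s) * f * s := by rw [hs2]; group
          _ = (s * c * s) * (s * f * s) := by group
          _ = c⁻¹ * f⁻¹ := by rw [hsc', hsf]
          _ = f⁻¹ * c⁻¹ := (hfc.inv_inv).eq
          _ = _ := (mul_inv_rev c f).symm
      free := by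
        intro x hx i hix
        by_contra hne
        push Not at hne
        obtain ⟨hx1, h15⟩ := hne
        have hcom : ∀ k, d ^ (i * k) * x = x * d ^ (i * k) := fun k => by
          rw [pow_mul]; exact ((show Commute (d ^ i) x from hix).pow_left k).eq
        rcases Classical.em (3 ∣ i) with h3 | h3
        · have h5 : ¬ 5 ∣ i := fun h5 => h15 (by omega)
          have e := hcom (6 * (i * i * i))
          rw [hd15] at e
          have e3 : i * (6 * (i * i * i)) % 3 = 0 := by simp [Nat.mul_mod]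
          have e5 : i * (6 * (i * i * i)) % 5 = 1 := by
            have hlt := Nat.mod_lt i (show 5 > 0 by norm_num)
            have hr : i % 5 ≠ 0 := fun e => h5 (Nat.dvd_of_mod_eq_zero e)
            rw [Nat.mul_mod, Nat.mul_mod 6, Nat.mul_mod (i * i), Nat.mul_mod i i]
            interval_cases i % 5 <;> simp_all
          rw [e3, e5, pow_zero, one_mul, pow_one] at e
          exact hx1 (F.five f hfN hfo x hx e)
        · have e := hcom (10 * i)
          rw [hd15] at e
          have e5 : i * (10 * i) % 5 = 0 := by simp [Nat.mul_mod]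
          have e3 : i * (10 * i) % 3 = 1 := by
            have hlt := Nat.mod_lt i (show 3 > 0 by norm_num)
            have hr : i % 3 ≠ 0 := fun e => h3 (Nat.dvd_of_mod_eq_zero e)
            rw [Nat.mul_mod, Nat.mul_mod 10]
            interval_cases i % 3 <;> simp_all
          rw [e3, e5, pow_one, pow_zero, mul_one] at e
          exact hx1 (F.fpf x hx e) }
  refine ⟨f, s, u, ⟨F, ⟨htN, mem_cent.2 htc⟩, ⟨p, hp, rfl, rfl, hget, hFa, (hFl nf (by simp)).2.1,
    (hFl nf (by simp)).2.2.1, hfix⟩, hst, (hFl nu huF).2.2.2, hsc', hfmem.1, hfo, hsf, htf, S, ?_, ?_, hkey.2 hI⟩⟩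
  · rw [hd15]
    show t * (c * f) * t = c ^ 1 * f ^ 4
    calc t * (c * f) * t = t * c * f * t := by group
      _ = c * (t * f * t) := by rw [htc]; group
      _ = _ := by rw [htf, pow_one, inv_eq_of_mul_eq_one_right (show f * f ^ 4 = 1 by rw [← pow_succ', hf5])]
  · intro htE
    have := F.fpf t htE htc.symm
    exact absurd h.ht (by simp [this])

/-- The subgroup, from a frame through `t`. -/
theorem of_frame (h : Loc t ρ) {E : Subgroup G} (F : Frame E (ρ 2)) (ht : t ∈ dGrp E (ρ 2)) :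
    ∃ (H : Subgroup G) (N : Subgroup H) (K : Type) (_ : Field K) (_ : Fintype K), N.Normal ∧ N.index = 2 ∧
      Fintype.card K = 16 ∧ Nonempty (N ≃* Matrix.SpecialLinearGroup (Fin 2) K) := by
  obtain ⟨f, s, u, g⟩ := exists_gens h F ht
  have htt : t * t = 1 := by
    have := pow_orderOf_eq_one t
    rwa [h.ht, pow_two] at this
  exact g.stein.exists_extension htt g.tD.1 ⟨4, g.tdt⟩ g.st.symm g.notE

/-- Some model at some involution has generators. -/
theorem exists_model_gens (h : Loc t ρ) (hone : ∀ x y : G, orderOf x = 2 → orderOf y = 2 → IsConj x y) :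
    ∃ (t' : G) (ρ' : ℕ → G) (E : Subgroup G) (f s u : G), Loc t' ρ' ∧ Gens t' ρ' E f s u := by
  classical
  obtain ⟨E, c, F⟩ := exists_frame h hone
  haveI : Fact (Nat.Prime 2) := ⟨Nat.prime_two⟩
  obtain ⟨i, hi⟩ := exists_prime_orderOf_dvd_card' (G := ↥(dGrp E c)) 2 (by rw [F.cardD]; norm_num)
  have hio : orderOf (i : G) = 2 := by rw [Subgroup.orderOf_coe, hi]
  obtain ⟨g, hg⟩ := isConj_iff.1 (hone t i h.ht hio)
  have h1 := loc_conj h g
  rw [hg] at h1
  have hci : c * (i : G) = i * c := (mem_cent.1 i.2.2).symm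
  obtain ⟨j, hj, hjc⟩ := h1.cover c hci
  have hoc := F.oc
  have hc3 : c * c * c = 1 := by
    have := pow_orderOf_eq_one c
    rwa [hoc, pow_succ, pow_two] at this
  have hs := three_class
  simp only [List.all_eq_true, List.mem_range, Bool.or_eq_true, Bool.not_eq_true', beq_eq_false_iff_ne,
    beq_iff_eq, ne_eq, List.any_eq_true] at hs
  rcases hs j hj with (e | e) | ⟨k, hk, e⟩
  · refine absurd ((mul_eq_one_iff h1 (h1.lt _ hj _ hj) hj).2 ?_) e
    rw [h1.mul _ hj _ hj, hjc, hc3]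
  · exfalso
    rw [e, h1.one] at hjc
    rw [← hjc, orderOf_one] at hoc
    norm_num at hoc
  · set ρ1 := fun i => g * ρ i * g⁻¹
    have h2' := loc_conj h1 (ρ1 k)
    have hkt : ρ1 k * (i : G) * (ρ1 k)⁻¹ = i := by rw [h1.comm _ hk, mul_inv_cancel_right]
    rw [hkt] at h2'
    have hi' : (i : G) ∈ dGrp E c := i.2
    rcases e with e | e
    · have e' := (eq_iff h1 hk (by norm_num) hj hk).1 e
      have hc : ρ1 k * ρ1 2 * (ρ1 k)⁻¹ = c := by
        rw [mul_inv_eq_iff_eq_mul, ← hjc]; exact e'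
      refine Exists.elim (exists_gens h2' (E := E) ?_ ?_) fun f hf => Exists.elim hf fun s hs => Exists.elim hs
        fun u hg => ⟨_, _, E, f, s, u, h2', hg⟩
      · show Frame E (ρ1 k * ρ1 2 * (ρ1 k)⁻¹)
        rw [hc]; exact F
      · show (i : G) ∈ dGrp E (ρ1 k * ρ1 2 * (ρ1 k)⁻¹)
        rw [hc]; exact hi'
    · have e' := (eq_iff h1 hk (h1.lt _ (by norm_num) _ (by norm_num)) hj hk).1 e
      rw [h1.mul _ (by norm_num) _ (by norm_num)] at e'
      have hc2 : (ρ1 k * ρ1 2 * (ρ1 k)⁻¹) * (ρ1 k * ρ1 2 * (ρ1 k)⁻¹) = c := by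
        rw [← hjc]
        calc (ρ1 k * ρ1 2 * (ρ1 k)⁻¹) * (ρ1 k * ρ1 2 * (ρ1 k)⁻¹) = ρ1 k * (ρ1 2 * ρ1 2) * (ρ1 k)⁻¹ := by group
          _ = ρ1 j := by rw [mul_inv_eq_iff_eq_mul]; exact e'
      have hc : ρ1 k * ρ1 2 * (ρ1 k)⁻¹ = c⁻¹ := by
        set x := ρ1 k * ρ1 2 * (ρ1 k)⁻¹
        have hx3 : x * x * x = 1 := by
          have h3' : ρ1 2 * ρ1 2 * ρ1 2 = 1 := by
            rw [← h1.mul _ (by norm_num) _ (by norm_num),
              ← h1.mul _ (h1.lt _ (by norm_num) _ (by norm_num)) _ (by norm_num),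
              show mul (mul 2 2) 2 = 0 by decide +kernel, h1.one]
          calc x * x * x = ρ1 k * (ρ1 2 * ρ1 2 * ρ1 2) * (ρ1 k)⁻¹ := by simp only [x]; group
            _ = 1 := by rw [h3']; group
        rw [hc2] at hx3
        exact (inv_eq_of_mul_eq_one_right hx3).symm
      refine Exists.elim (exists_gens h2' (E := E) ?_ ?_) fun f hf => Exists.elim hf fun s hs => Exists.elim hs
        fun u hg => ⟨_, _, E, f, s, u, h2', hg⟩
      · show Frame E (ρ1 k * ρ1 2 * (ρ1 k)⁻¹)
        rw [hc]; exact F.inv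
      · show (i : G) ∈ dGrp E (ρ1 k * ρ1 2 * (ρ1 k)⁻¹)
        rw [hc]
        exact ⟨hi'.1, mem_cent.2 ((show Commute (i : G) c from mem_cent.1 hi'.2).inv_right).eq⟩

/-- The subgroup. -/
theorem exists_sl_two_sixteen (h : Loc t ρ) (hone : ∀ x y : G, orderOf x = 2 → orderOf y = 2 → IsConj x y) :
    ∃ (H : Subgroup G) (N : Subgroup H) (K : Type) (_ : Field K) (_ : Fintype K), N.Normal ∧ N.index = 2 ∧
      Fintype.card K = 16 ∧ Nonempty (N ≃* Matrix.SpecialLinearGroup (Fin 2) K) := by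
  obtain ⟨t', ρ', E, f, s, u, h', hg⟩ := exists_model_gens h hone
  exact of_frame h' hg.frame hg.tD

end CfsgLib.Sporadic.J3Linear
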