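import Cfsg.Agent.Lib.Sporadic.J3Linear.Data
import Cfsg.Agent.Lib.SmallGroups.J3Order.Values

/-!
# The finite facts read in a centraliser of an involution
-/

set_option autoImplicit false
set_option linter.style.haveILetI false
set_option linter.unusedSectionVars false

namespace CfsgLib.Sporadic.J3Linear

open CfsgLib.SmallGroups.J3Order (Loc mul)
open Data

variable {G : Type*} [Group G] [Finite G] {t : G} {ρ : ℕ → G}

theorem mul_lt (h : Loc t ρ) {i j : ℕ} (hi : i < 1920) (hj : j < 1920) : mul i j < 1920 := h.lt _ hi _ hj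

theorem eq_iff (h : Loc t ρ) {a b c d : ℕ} (ha : a < 1920) (hb : b < 1920) (hc : c < 1920) (hd : d < 1920) :
    mul a b = mul c d ↔ ρ a * ρ b = ρ c * ρ d := by
  rw [← h.mul _ ha _ hb, ← h.mul _ hc _ hd]
  exact ⟨fun e => by rw [e], fun e => h.inj _ (h.lt _ ha _ hb) _ (h.lt _ hc _ hd) e⟩

theorem eq_one_iff (h : Loc t ρ) {a : ℕ} (ha : a < 1920) : ρ a = 1 ↔ a = 0 := by
  rw [← h.one]
  exact ⟨fun e => h.inj _ ha _ (by norm_num) e, fun e => by rw [e]⟩

theorem eq_t_iff (h : Loc t ρ) {a : ℕ} (ha : a < 1920) : ρ a = t ↔ a = 960 := by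
  rw [← h.centre]
  exact ⟨fun e => h.inj _ ha _ (by norm_num) e, fun e => by rw [e]⟩

theorem mul_eq_one_iff (h : Loc t ρ) {a b : ℕ} (ha : a < 1920) (hb : b < 1920) :
    mul a b = 0 ↔ ρ a * ρ b = 1 := by
  rw [← h.mul _ ha _ hb, eq_one_iff h (h.lt _ ha _ hb)]

/-- The values of a list. -/
def img (ρ : ℕ → G) (l : List ℕ) : Set G := {g | ∃ i ∈ l, ρ i = g}

theorem ncard_img (h : Loc t ρ) {l : List ℕ} (hl : ∀ i ∈ l, i < 1920) (hn : l.Nodup) :
    (img ρ l).ncard = l.length := by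
  classical
  have : img ρ l = ↑(l.toFinset.image ρ) := by ext g; simp [img]
  rw [this, Set.ncard_coe_finset, Finset.card_image_of_injOn, List.toFinset_card_of_nodup hn]
  intro a ha b hb e
  simp only [List.coe_toFinset, Set.mem_setOf_eq] at ha hb
  exact h.inj _ (hl a ha) _ (hl b hb) e

theorem mem_filter_lt {p : ℕ → Bool} {l : List ℕ} (e : ((List.range 1920).filter p) = l) {i : ℕ} :
    i ∈ l ↔ i < 1920 ∧ p i = true := by
  rw [← e, List.mem_filter, List.mem_range]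

theorem e0_lt {i : ℕ} (hi : i ∈ e0) : i < 1920 := by
  have h := e0_spec
  simp only [Bool.and_eq_true, List.all_eq_true, decide_eq_true_eq] at h
  exact (h.2 i hi).1.1

/-- The first elementary abelian subgroup of order sixteen. -/
def E₀ (h : Loc t ρ) : Subgroup G where
  carrier := img ρ e0
  one_mem' := ⟨0, by decide, h.one⟩
  mul_mem' := by
    rintro _ _ ⟨i, hi, rfl⟩ ⟨j, hj, rfl⟩
    have hs := e0_spec
    simp only [Bool.and_eq_true, List.all_eq_true, decide_eq_true_eq, List.contains_iff_mem] at hs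
    exact ⟨mul i j, ((hs.2 i hi).2 j hj).1, h.mul _ (e0_lt hi) _ (e0_lt hj)⟩
  inv_mem' := by
    rintro _ ⟨i, hi, rfl⟩
    have hs := e0_spec
    simp only [Bool.and_eq_true, List.all_eq_true, decide_eq_true_eq, beq_iff_eq] at hs
    exact ⟨i, hi, (inv_eq_of_mul_eq_one_right ((mul_eq_one_iff h (e0_lt hi) (e0_lt hi)).1 (hs.2 i hi).1.2)).symm⟩

theorem mem_E0 (h : Loc t ρ) {g : G} : g ∈ E₀ h ↔ ∃ i ∈ e0, ρ i = g := Iff.rfl

theorem E0_facts (h : Loc t ρ) : Nat.card (E₀ h) = 16 ∧ (∀ x ∈ E₀ h, x * x = 1) ∧ t ∈ E₀ h := by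
  refine ⟨?_, ?_, ⟨960, by decide, h.centre⟩⟩
  · rw [show Nat.card (E₀ h) = (img ρ e0).ncard from Nat.card_coe_set_eq _,
      ncard_img h (fun i hi => e0_lt hi) (by decide)]
    rfl
  · rintro _ ⟨i, hi, rfl⟩
    have hs := e0_spec
    simp only [Bool.and_eq_true, List.all_eq_true, decide_eq_true_eq, beq_iff_eq] at hs
    exact (mul_eq_one_iff h (e0_lt hi) (e0_lt hi)).1 (hs.2 i hi).1.2

theorem mem_centre (h : Loc t ρ) {g : G} (hg : g * t = t * g) : ∃ i < 1920, ρ i = g := h.cover g hg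

theorem mem_invL (h : Loc t ρ) {i : ℕ} (hi : i < 1920) (hsq : ρ i * ρ i = 1) (h1 : ρ i ≠ 1) (ht : ρ i ≠ t) :
    i ∈ invL := by
  refine (mem_filter_lt inv_spec).2 ⟨hi, ?_⟩
  simp only [Bool.and_eq_true, beq_iff_eq, Bool.not_eq_true', beq_eq_false_iff_ne, ne_eq]
  exact ⟨⟨(mul_eq_one_iff h hi hi).2 hsq, fun e => h1 ((eq_one_iff h hi).2 e)⟩, fun e => ht ((eq_t_iff h hi).2 e)⟩

/-- An elementary abelian subgroup of order sixteen containing `t` is conjugate to the first one. -/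
theorem conj_E0 (h : Loc t ρ) (E : Subgroup G) (hE : Nat.card E = 16) (h2 : ∀ x ∈ E, x * x = 1) (ht : t ∈ E) :
    ∃ g : G, g * t = t * g ∧ (E₀ h).map (MulAut.conj g).toMonoidHom = E := by
  classical
  have hcomm : ∀ x ∈ E, ∀ y ∈ E, x * y = y * x := by
    intro x hx y hy
    have e1 := h2 _ (mul_mem hx hy)
    have hi : ∀ z ∈ E, z⁻¹ = z := fun z hz => inv_eq_of_mul_eq_one_right (h2 z hz)
    calc x * y = (x * y)⁻¹ := (inv_eq_of_mul_eq_one_right e1).symm
      _ = y⁻¹ * x⁻¹ := mul_inv_rev x y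
      _ = y * x := by rw [hi x hx, hi y hy]
  have hidx : ∀ x ∈ E, ∃ i < 1920, ρ i = x := fun x hx => h.cover x (hcomm x hx t ht)
  have hbig : ∀ (L : List ℕ), L.length < 16 → ∃ x ∈ E, ∀ i ∈ L, ρ i ≠ x := by
    intro L hL
    by_contra hne
    push Not at hne
    have hsub : (E : Set G) ⊆ img ρ L := fun x hx => hne x hx
    have hfin : (img ρ L) = ↑(L.toFinset.image ρ) := by ext g; simp [img]
    have h3 := Set.ncard_le_ncard hsub (by rw [hfin]; exact Finset.finite_toSet _)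
    have h4 : (img ρ L).ncard ≤ L.length := by
      rw [hfin, Set.ncard_coe_finset]
      exact Finset.card_image_le.trans (List.toFinset_card_le L)
    rw [← Nat.card_coe_set_eq] at h3
    have : Nat.card (E : Set G) = 16 := hE
    omega
  obtain ⟨_, haE, ha'⟩ := hbig [0, 960] (by norm_num)
  obtain ⟨a, hal, rfl⟩ := hidx _ haE
  obtain ⟨_, hbE, hb'⟩ := hbig (span4 a) (by simp [span4])
  obtain ⟨b, hbl, rfl⟩ := hidx _ hbE
  obtain ⟨_, hcE, hc'⟩ := hbig (span8 a b) (by simp [span8, span4])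
  obtain ⟨c, hcl, rfl⟩ := hidx _ hcE
  simp only [List.mem_cons, List.not_mem_nil, or_false, forall_eq_or_imp, forall_eq, h.one, h.centre] at ha'
  have hne : ∀ {x : ℕ}, x < 1920 → ρ x ∈ E → (∀ i ∈ span4 a, ρ i ≠ ρ x) → x ∈ invL := by
    intro x hx hxE hd
    exact mem_invL h hx (h2 _ hxE) (fun e => hd 0 (by simp [span4]) (by rw [e, h.one]))
      (fun e => hd 960 (by simp [span4]) (by rw [e, h.centre]))
  have haI := mem_invL h hal (h2 _ haE) ha'.1.symm ha'.2.symm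
  have hbI := hne hbl hbE hb'
  have hcI := hne hcl hcE fun i hi => hc' i (List.mem_append_left _ hi)
  have hcm := cm_spec
  simp only [Bool.and_eq_true, beq_iff_eq, List.all_eq_true] at hcm
  obtain ⟨p0, hp0, hp0a⟩ : ∃ p0 ∈ cmL, p0.1 = a := by
    have : a ∈ cmL.map Prod.fst := hcm.1 ▸ haI
    simpa using this
  have hin : ∀ {x : ℕ}, x < 1920 → ρ x ∈ E → x ∈ invL → x ∈ p0.2 := by
    intro x hx hxE hxI
    rw [← hcm.2 p0 hp0, List.mem_filter, hp0a]
    exact ⟨hxI, beq_iff_eq.2 ((eq_iff h hal hx hx hal).2 (hcomm _ haE _ hxE))⟩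
  have htr := triples
  simp only [List.all_eq_true, Bool.or_eq_true, List.contains_iff_mem, List.any_eq_true, Bool.and_eq_true,
    Bool.not_eq_true', beq_eq_false_iff_ne, ne_eq] at htr
  have := htr p0 hp0 b (hin hbl hbE hbI)
  rw [hp0a] at this
  have h5 := (this.resolve_left fun e => hb' b e rfl) c (hin hcl hcE hcI)
  obtain ⟨p, hp, ⟨hpa, hpb⟩, hpc⟩ := (h5.resolve_left fun e => e.elim
    (fun e => e ((eq_iff h hbl hcl hcl hbl).2 (hcomm _ hbE _ hcE))) fun e => hc' c e rfl)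
  have hps := eList_spec
  simp only [List.all_eq_true, Bool.and_eq_true, decide_eq_true_eq, beq_iff_eq, List.any_eq_true] at hps
  obtain ⟨⟨hg, hgt⟩, hgl⟩ := hps p hp
  refine ⟨ρ p.2, h.comm _ hg, ?_⟩
  set g := ρ p.2
  set E' := (E₀ h).map (MulAut.conj g).toMonoidHom
  have hlist : ∀ y ∈ p.1, y < 1920 → ρ y ∈ E' := by
    intro y hy hyl
    obtain ⟨x, hx, e⟩ := hgl y hy
    refine ⟨ρ x, ⟨x, hx, rfl⟩, ?_⟩
    have e' := (eq_iff h hg (e0_lt hx) hyl hg).1 e
    show g * ρ x * g⁻¹ = ρ y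
    rw [e', mul_inv_cancel_right]
  have hE' : Nat.card E' = 16 := by
    rw [Subgroup.card_map_of_injective (MulAut.conj g).injective, (E0_facts h).1]
  have htE' : t ∈ E' := ⟨t, (E0_facts h).2.2, by
    show g * t * g⁻¹ = t
    rw [show g * t = t * g from h.comm _ hg, mul_inv_cancel_right]⟩
  set K := E ⊓ E'
  have hKle : Nat.card K ∣ 16 := hE ▸ Subgroup.card_dvd_of_le inf_le_left
  have hgt : ∀ {H H' : Subgroup G}, H ≤ H' → (∃ x ∈ H', x ∉ H) → 2 * Nat.card H ≤ Nat.card H' := by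
    rintro H H' hle ⟨x, hx, hx'⟩
    obtain ⟨k, hk⟩ := Subgroup.card_dvd_of_le hle
    have h0 : 0 < Nat.card H := Nat.card_pos
    rcases Nat.lt_or_ge k 2 with hk2 | hk2
    · exfalso
      have : Nat.card H' ≤ Nat.card H := by
        rw [hk]; calc _ ≤ Nat.card H * 1 := Nat.mul_le_mul_left _ (by omega)
          _ = _ := mul_one _
      exact hx' ((Subgroup.eq_of_le_of_card_ge hle this) ▸ hx)
    · rw [hk, mul_comm]; exact Nat.mul_le_mul_left _ hk2
  -- the chain of spans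
  have key : ∀ (H : Subgroup G) (x : G) (S : Set G), x * x = 1 → (∀ s ∈ S, s * x = x * s) →
      (H : Set G) = S → ∃ H' : Subgroup G, (H' : Set G) = S ∪ (fun s => s * x) '' S := by
    intro H x S hx hs hS
    subst hS
    refine ⟨⟨⟨⟨(H : Set G) ∪ (fun s => s * x) '' (H : Set G), ?_⟩, ?_⟩, ?_⟩, rfl⟩
    · rintro u v (hu | ⟨u', hu, rfl⟩) (hv | ⟨v', hv, rfl⟩)
      · exact Or.inl (mul_mem hu hv)
      · exact Or.inr ⟨u * v', mul_mem hu hv, by simp [mul_assoc]⟩
      · exact Or.inr ⟨u' * v, mul_mem hu hv, by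
          show u' * v * x = u' * x * v
          rw [mul_assoc, hs v hv, mul_assoc]⟩
      · refine Or.inl ?_
        show u' * x * (v' * x) ∈ H
        have : u' * x * (v' * x) = u' * v' := by
          calc u' * x * (v' * x) = u' * (x * v') * x := by group
            _ = u' * (v' * x) * x := by rw [hs v' hv]
            _ = u' * v' * (x * x) := by group
            _ = _ := by rw [hx, mul_one]
        rw [this]
        exact mul_mem hu hv
    · exact Or.inl H.one_mem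
    · rintro u (hu | ⟨u', hu, rfl⟩)
      · exact Or.inl (inv_mem hu)
      · refine Or.inr ⟨u'⁻¹, inv_mem hu, ?_⟩
        show u'⁻¹ * x = (u' * x)⁻¹
        rw [mul_inv_rev, inv_eq_of_mul_eq_one_right hx, hs _ (inv_mem hu)]
  have ht2 : t * t = 1 := h2 t ht
  have hS1 : ∃ H : Subgroup G, (H : Set G) = img ρ [0, 960] := by
    obtain ⟨H, hH⟩ := key ⊥ t {1} ht2 (fun s hs => by rw [Set.mem_singleton_iff.1 hs]; simp) Subgroup.coe_bot
    refine ⟨H, hH.trans (Set.ext fun x => ⟨?_, ?_⟩)⟩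
    · rintro (hx | ⟨u, hu, rfl⟩)
      · exact ⟨0, by simp, h.one.trans (Set.mem_singleton_iff.1 hx).symm⟩
      · exact ⟨960, by simp, by rw [Set.mem_singleton_iff.1 hu]; exact h.centre.trans (one_mul t).symm⟩
    · rintro ⟨i, hi, rfl⟩
      simp only [List.mem_cons, List.not_mem_nil, or_false] at hi
      rcases hi with rfl | rfl
      · exact Or.inl h.one
      · exact Or.inr ⟨1, rfl, (one_mul t).trans h.centre.symm⟩
  obtain ⟨H1, hH1⟩ := hS1
  have hmem1 : ∀ s ∈ img ρ [0, 960], s ∈ E ∧ s ∈ E' := by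
    rintro _ ⟨i, hi, rfl⟩
    simp only [List.mem_cons, List.not_mem_nil, or_false] at hi
    rcases hi with rfl | rfl
    · rw [h.one]; exact ⟨one_mem E, one_mem E'⟩
    · rw [h.centre]; exact ⟨ht, htE'⟩
  obtain ⟨H2, hH2⟩ := key H1 (ρ a) _ (h2 _ haE) (fun s hs => hcomm s (hmem1 s hs).1 _ haE) hH1
  have h24 : (H2 : Set G) = img ρ (span4 a) := by
    have e : ρ (mul a 960) = t * ρ a := by
      rw [h.mul _ hal _ (by norm_num), h.centre]; exact h.comm _ hal
    rw [hH2]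
    refine Set.ext fun x => ⟨?_, ?_⟩
    · rintro (⟨i, hi, rfl⟩ | ⟨_, ⟨i, hi, rfl⟩, rfl⟩) <;>
        simp only [List.mem_cons, List.not_mem_nil, or_false] at hi <;> rcases hi with rfl | rfl
      · exact ⟨0, by simp [span4], rfl⟩
      · exact ⟨960, by simp [span4], rfl⟩
      · exact ⟨a, by simp [span4], by simp [h.one]⟩
      · exact ⟨mul a 960, by simp [span4], by simp only [h.centre]; exact e⟩
    · rintro ⟨i, hi, rfl⟩
      simp only [span4, List.mem_cons, List.not_mem_nil, or_false] at hi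
      rcases hi with rfl | rfl | rfl | rfl
      · exact Or.inl ⟨0, by simp, rfl⟩
      · exact Or.inl ⟨960, by simp, rfl⟩
      · exact Or.inr ⟨ρ 0, ⟨0, by simp, rfl⟩, by simp [h.one]⟩
      · exact Or.inr ⟨ρ 960, ⟨960, by simp, rfl⟩, by simp only [h.centre]; exact e.symm⟩
  have haE' : ρ a ∈ E' := hlist a hpa hal
  have hbE' : ρ b ∈ E' := hlist b hpb hbl
  have hcE' : ρ c ∈ E' := hlist c hpc hcl
  have hmem2 : ∀ s ∈ img ρ (span4 a), s ∈ E ∧ s ∈ E' := by
    intro s hs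
    rw [← h24, hH2] at hs
    rcases hs with hs | ⟨u, hu, rfl⟩
    · exact hmem1 s hs
    · exact ⟨mul_mem (hmem1 u hu).1 haE, mul_mem (hmem1 u hu).2 haE'⟩
  obtain ⟨H3, hH3⟩ := key H2 (ρ b) _ (h2 _ hbE) (fun s hs => hcomm s (hmem2 s hs).1 _ hbE) h24
  have h38 : (H3 : Set G) = img ρ (span8 a b) := by
    rw [hH3]
    ext x
    simp only [img, span8, Set.mem_union, Set.mem_image, Set.mem_setOf_eq, List.mem_append, List.mem_map]
    constructor
    · rintro (⟨i, hi, rfl⟩ | ⟨_, ⟨i, hi, rfl⟩, rfl⟩)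
      · exact ⟨i, Or.inl hi, rfl⟩
      · refine ⟨mul i b, Or.inr ⟨i, hi, rfl⟩, h.mul _ ?_ _ hbl⟩
        simp only [span4, List.mem_cons, List.not_mem_nil, or_false] at hi
        rcases hi with rfl | rfl | rfl | rfl
        · norm_num
        · norm_num
        · exact hal
        · exact h.lt _ hal _ (by norm_num)
    · rintro ⟨i, (hi | ⟨j, hj, rfl⟩), rfl⟩
      · exact Or.inl ⟨i, hi, rfl⟩
      · refine Or.inr ⟨ρ j, ⟨j, hj, rfl⟩, (h.mul _ ?_ _ hbl).symm⟩
        simp only [span4, List.mem_cons, List.not_mem_nil, or_false] at hj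
        rcases hj with rfl | rfl | rfl | rfl
        · norm_num
        · norm_num
        · exact hal
        · exact h.lt _ hal _ (by norm_num)
  have hK3 : H3 ≤ K := fun x hx => by
    have hx' : x ∈ (H3 : Set G) := hx
    rw [hH3] at hx'
    rcases hx' with hx' | ⟨u, hu, rfl⟩
    · exact hmem2 x hx'
    · exact ⟨mul_mem (hmem2 u hu).1 hbE, mul_mem (hmem2 u hu).2 hbE'⟩
  have e1 : 2 * Nat.card H1 ≤ Nat.card H2 := hgt
    (fun x hx => by show x ∈ (H2 : Set G); rw [hH2]; exact Or.inl (hH1 ▸ hx))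
    ⟨ρ a, by show ρ a ∈ (H2 : Set G); rw [h24]; exact ⟨a, by simp [span4], rfl⟩, fun hm => by
      have hm' : ρ a ∈ (H1 : Set G) := hm
      rw [hH1] at hm'
      obtain ⟨i, hi, e⟩ := hm'
      simp only [List.mem_cons, List.not_mem_nil, or_false] at hi
      rcases hi with rfl | rfl
      · exact ha'.1 (by rw [← e, h.one])
      · exact ha'.2 (by rw [← e, h.centre])⟩
  have e2 : 2 * Nat.card H2 ≤ Nat.card H3 := hgt
    (fun x hx => by show x ∈ (H3 : Set G); rw [hH3]; exact Or.inl (h24 ▸ hx))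
    ⟨ρ b, by show ρ b ∈ (H3 : Set G); rw [hH3]; exact Or.inr ⟨1, h24 ▸ H2.one_mem, one_mul _⟩, fun hm => by
      have hm' : ρ b ∈ (H2 : Set G) := hm
      rw [h24] at hm'
      obtain ⟨i, hi, e⟩ := hm'
      exact hb' i hi e⟩
  have e3 : 2 * Nat.card H3 ≤ Nat.card K := hgt hK3 ⟨ρ c, ⟨hcE, hcE'⟩, fun hm => by
      have hm' : ρ c ∈ (H3 : Set G) := hm
      rw [h38] at hm'
      obtain ⟨i, hi, e⟩ := hm'
      exact hc' i hi e⟩
  have e0' : 2 ≤ Nat.card H1 := by
    rw [show Nat.card H1 = (img ρ [0, 960]).ncard by rw [← hH1]; exact Nat.card_coe_set_eq _,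
      ncard_img h (by simp) (by simp)]
    rfl
  have hK : 16 ≤ Nat.card K := by omega
  have k1 : K = E := Subgroup.eq_of_le_of_card_ge inf_le_left (hE ▸ hK)
  have k2 : K = E' := Subgroup.eq_of_le_of_card_ge inf_le_right (hE' ▸ hK)
  exact k2 ▸ k1

/-- The normaliser in `C(t)` of the first subgroup. -/
theorem normaliser_facts (h : Loc t ρ) :
    Nat.card ↥(Subgroup.normalizer ((E₀ h : Subgroup G) : Set G) ⊓ Subgroup.centralizer ({t} : Set G)) = 192 ∧
    ∃ X : Subgroup G, Nat.card X = 4 ∧ X ≤ E₀ h ∧ t ∈ X ∧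
      (∀ g ∈ Subgroup.normalizer ((E₀ h : Subgroup G) : Set G), g * t = t * g → ∀ x ∈ X, g * x = x * g) ∧
      (∀ e ∈ E₀ h, (∀ g ∈ Subgroup.normalizer ((E₀ h : Subgroup G) : Set G), g * t = t * g → g * e = e * g) →
        e ∈ X) ∧
      (∀ e ∈ E₀ h, e ∉ X → ∀ g ∈ Subgroup.normalizer ((E₀ h : Subgroup G) : Set G), g * t = t * g →
        g * e = e * g → g ∈ E₀ h) ∧
      (∀ m ∈ Subgroup.normalizer ((E₀ h : Subgroup G) : Set G), m * t = t * m → m ∉ E₀ h →
        ∃ y ∈ Subgroup.normalizer ((E₀ h : Subgroup G) : Set G), y * t = t * y ∧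
          ∀ e ∈ E₀ h, y * m * y⁻¹ ≠ e ∧ y * m * y⁻¹ ≠ e * m ∧ y * m * y⁻¹ ≠ e * (m * m)) := by
  classical
  set N := Subgroup.normalizer ((E₀ h : Subgroup G) : Set G)
  set M := N ⊓ Subgroup.centralizer ({t} : Set G)
  have hm := mL_spec
  simp only [Bool.and_eq_true, beq_iff_eq] at hm
  have hmlt : ∀ {i : ℕ}, i ∈ mL → i < 1920 := fun hi => ((mem_filter_lt hm.2).1 hi).1
  have hM : ∀ g : G, g ∈ M ↔ ∃ i ∈ mL, ρ i = g := by
    intro g
    constructor
    · rintro ⟨hn, hc⟩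
      obtain ⟨i, hi, rfl⟩ := h.cover g (Subgroup.mem_centralizer_singleton_iff.1 hc)
      refine ⟨i, (mem_filter_lt hm.2).2 ⟨hi, ?_⟩, rfl⟩
      simp only [List.all_eq_true, List.any_eq_true, beq_iff_eq]
      intro x hx
      obtain ⟨y, hy, e⟩ := (Subgroup.mem_normalizer_iff.1 hn (ρ x)).1 ⟨x, hx, rfl⟩
      exact ⟨y, hy, (eq_iff h hi (e0_lt hx) (e0_lt hy) hi).2 (eq_mul_inv_iff_mul_eq.1 e).symm⟩
    · rintro ⟨i, hi, rfl⟩
      obtain ⟨hil, hp⟩ := (mem_filter_lt hm.2).1 hi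
      simp only [List.all_eq_true, List.any_eq_true, beq_iff_eq] at hp
      refine ⟨?_, Subgroup.mem_centralizer_singleton_iff.2 (h.comm _ hil)⟩
      have hle : (E₀ h).map (MulAut.conj (ρ i)).toMonoidHom ≤ E₀ h := by
        rintro _ ⟨_, ⟨x, hx, rfl⟩, rfl⟩
        obtain ⟨y, hy, e⟩ := hp x hx
        refine ⟨y, hy, ?_⟩
        show ρ y = ρ i * ρ x * (ρ i)⁻¹
        rw [(eq_iff h hil (e0_lt hx) (e0_lt hy) hil).1 e, mul_inv_cancel_right]
      have := Subgroup.eq_of_le_of_card_ge hle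
        (Subgroup.card_map_of_injective (MulAut.conj (ρ i)).injective).ge
      refine Subgroup.mem_normalizer_iff.2 ?_
      intro x
      constructor
      · exact fun hx => hle ⟨x, hx, rfl⟩
      · intro hx
        rw [← this] at hx
        obtain ⟨z, hz, e⟩ := hx
        rwa [← show z = x from (MulAut.conj (ρ i)).injective e]
  refine ⟨?_, ?_⟩
  · have hnd : mL.Nodup := hm.2 ▸ (List.nodup_range (n := 1920)).filter _
    rw [show Nat.card M = (img ρ mL).ncard by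
      rw [← Nat.card_coe_set_eq]
      exact Nat.card_congr (Equiv.setCongr (Set.ext hM)), ncard_img h (fun i hi => hmlt hi) hnd, hm.1]
  have hx := xL_spec
  simp only [Bool.and_eq_true, beq_iff_eq, decide_eq_true_eq, List.all_eq_true, List.contains_iff_mem,
    Bool.or_eq_true, Bool.not_eq_true', beq_eq_false_iff_ne, ne_eq, List.all_eq_false] at hx
  obtain ⟨⟨⟨hxlen, hxnd⟩, hxX⟩, hxE⟩ := hx
  let X : Subgroup G := E₀ h ⊓ Subgroup.centralizer (M : Set G)
  have hXmem : ∀ g : G, g ∈ X ↔ ∃ i ∈ xL, ρ i = g := by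
    intro g
    constructor
    · rintro ⟨⟨i, hi, rfl⟩, hc⟩
      refine ⟨i, ?_, rfl⟩
      rcases hxE i hi with hX | ⟨⟨m, hm', hne⟩, -⟩
      · exact hX
      · exfalso
        apply hne
        exact (eq_iff h (hmlt hm') (e0_lt hi) (e0_lt hi) (hmlt hm')).2
          (Subgroup.mem_centralizer_iff.1 hc _ ((hM _).2 ⟨m, hm', rfl⟩))
    · rintro ⟨i, hi, rfl⟩
      obtain ⟨hie, hic⟩ := hxX i hi
      refine ⟨⟨i, hie, rfl⟩, Subgroup.mem_centralizer_iff.2 fun g hg => ?_⟩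
      obtain ⟨m, hm', rfl⟩ := (hM g).1 hg
      exact (eq_iff h (hmlt hm') (e0_lt hie) (e0_lt hie) (hmlt hm')).1 (hic m hm')
  refine ⟨X, ?_, inf_le_left, (hXmem t).2 ⟨960, by decide, h.centre⟩, ?_, ?_, ?_, ?_⟩
  · rw [show Nat.card X = (img ρ xL).ncard by
      rw [← Nat.card_coe_set_eq]
      exact Nat.card_congr (Equiv.setCongr (Set.ext hXmem)),
      ncard_img h (fun i hi => e0_lt (hxX i hi).1) hxnd, hxlen]
  · intro g hg hgt x hx
    exact Subgroup.mem_centralizer_iff.1 hx.2 g ⟨hg, Subgroup.mem_centralizer_singleton_iff.2 hgt⟩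
  · intro e he hfix
    refine ⟨he, Subgroup.mem_centralizer_iff.2 fun g hg => ?_⟩
    exact hfix g hg.1 (Subgroup.mem_centralizer_singleton_iff.1 hg.2)
  · rintro _ ⟨i, hi, rfl⟩ hiX g hg hgt hgc
    obtain ⟨m, hm', rfl⟩ := (hM g).1 ⟨hg, Subgroup.mem_centralizer_singleton_iff.2 hgt⟩
    rcases hxE i hi with hX | ⟨-, hall⟩
    · exact absurd ((hXmem _).2 ⟨i, hX, rfl⟩) hiX
    · rcases hall m hm' with e | e
      · exact absurd ((eq_iff h (hmlt hm') (e0_lt hi) (e0_lt hi) (hmlt hm')).2 hgc) e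
      · exact ⟨m, e, rfl⟩
  · intro g hg hgt hgE
    obtain ⟨m, hm', rfl⟩ := (hM g).1 ⟨hg, Subgroup.mem_centralizer_singleton_iff.2 hgt⟩
    have hn := no_normal
    simp only [Bool.and_eq_true, List.all_eq_true, List.contains_iff_mem, Bool.or_eq_true, List.any_eq_true,
      Bool.not_eq_true', beq_eq_false_iff_ne, ne_eq] at hn
    obtain ⟨y, hy, hall⟩ := (hn m hm').resolve_left fun e => hgE ⟨m, e, rfl⟩
    have hyM := (hM _).2 ⟨y, hy, rfl⟩
    refine ⟨ρ y, hyM.1, Subgroup.mem_centralizer_singleton_iff.1 hyM.2, ?_⟩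
    rintro _ ⟨e, he, rfl⟩
    obtain ⟨⟨n1, n2⟩, n3⟩ := hall e he
    have el := e0_lt he
    have yl := hmlt hy
    have ml := hmlt hm'
    refine ⟨fun q => n1 ?_, fun q => n2 ?_, fun q => n3 ?_⟩ <;> rw [mul_inv_eq_iff_eq_mul] at q
    · exact (eq_iff h yl ml el yl).2 q
    · exact (eq_iff h yl ml (h.lt _ el _ ml) yl).2 (by rw [h.mul _ el _ ml]; exact q)
    · exact (eq_iff h yl ml (h.lt _ el _ (h.lt _ ml _ ml)) yl).2
        (by rw [h.mul _ el _ (h.lt _ ml _ ml), h.mul _ ml _ ml]; exact q)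

end CfsgLib.Sporadic.J3Linear
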