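import Cfsg.Agent.Lib.Sporadic.J3Linear.Model
import Mathlib

/-!
# The normaliser `2⁴:(3×A₅)` of an elementary abelian subgroup of order sixteen

In a group with one class of involutions the normaliser is transitive on the fifteen involutions; the fixed
points of the point stabilisers cut them into five lines, and the kernel on the lines gives an element of order
three acting without fixed points.
-/

set_option autoImplicit false
set_option linter.style.haveILetI false
set_option linter.unusedSectionVars false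

namespace CfsgLib.Sporadic.J3Linear

open CfsgLib.SmallGroups.J3Order (Loc)
open Subgroup

variable {G : Type*} [Group G] [Finite G]

/-- The centraliser of `c` in the normaliser of `E`. -/
def dGrp (E : Subgroup G) (c : G) : Subgroup G :=
  Subgroup.normalizer ((E : Subgroup G) : Set G) ⊓ Subgroup.centralizer ({c} : Set G)

/-- An elementary abelian group of order sixteen with an element of order three of its normaliser. -/
structure Frame (E : Subgroup G) (c : G) : Prop where
  card : Nat.card E = 16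
  sq : ∀ x ∈ E, x * x = 1
  oc : orderOf c = 3
  mem : c ∈ Subgroup.normalizer ((E : Subgroup G) : Set G)
  fpf : ∀ e ∈ E, c * e = e * c → e = 1
  cardD : Nat.card (dGrp E c) = 180
  five : ∀ f ∈ Subgroup.normalizer ((E : Subgroup G) : Set G), orderOf f = 5 → ∀ e ∈ E, f * e = e * f → e = 1
  no90 : ∀ M ≤ dGrp E c, Nat.card M ≠ 90
  no45 : ∀ M ≤ dGrp E c, Nat.card M = 45 → ¬ ∀ d ∈ dGrp E c, ∀ m ∈ M, d * m * d⁻¹ ∈ M

theorem mem_cent {x g : G} : g ∈ Subgroup.centralizer ({x} : Set G) ↔ g * x = x * g :=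
  Subgroup.mem_centralizer_singleton_iff

theorem Frame.inv {E : Subgroup G} {c : G} (F : Frame E c) : Frame E c⁻¹ := by
  have hD : dGrp E c⁻¹ = dGrp E c := by
    simp only [dGrp]
    congr 1
    ext g
    rw [mem_cent, mem_cent]
    exact ⟨fun h => (Commute.inv_right_iff.1 (show Commute g c⁻¹ from h)).eq,
      fun h => ((show Commute g c from h).inv_right).eq⟩
  refine ⟨F.card, F.sq, by rw [orderOf_inv, F.oc], inv_mem F.mem,
    fun e he h => F.fpf e he ((Commute.inv_left_iff.1 (show Commute c⁻¹ e from h)).eq), by rw [hD]; exact F.cardD,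
    F.five, by rw [hD]; exact F.no90, by rw [hD]; exact F.no45⟩

/-- Orbit times stabiliser for conjugation. -/
theorem card_conj (H : Subgroup G) (x : G) (S : Set G) (hS : ∀ y, y ∈ S ↔ ∃ h ∈ H, h * x * h⁻¹ = y) :
    S.ncard * Nat.card ↥(H ⊓ Subgroup.centralizer ({x} : Set G)) = Nat.card H := by
  classical
  set K := (H ⊓ Subgroup.centralizer ({x} : Set G)).subgroupOf H
  have hK : Nat.card K = Nat.card ↥(H ⊓ Subgroup.centralizer ({x} : Set G)) :=
    Nat.card_congr (Subgroup.subgroupOfEquivOfLe inf_le_left).toEquiv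
  have hi : K.index = S.ncard := by
    rw [Subgroup.index, ← Nat.card_coe_set_eq]
    have hwd : ∀ g h : ↥H, QuotientGroup.leftRel K g h → (g : G) * x * (g : G)⁻¹ = h * x * (h : G)⁻¹ := by
      intro g h hgh
      rw [QuotientGroup.leftRel_apply, Subgroup.mem_subgroupOf] at hgh
      have := mem_cent.1 hgh.2
      simp only [Subgroup.coe_mul, InvMemClass.coe_inv] at this
      calc (g : G) * x * (g : G)⁻¹ = (h : G) * ((h : G)⁻¹ * g * x) * (g : G)⁻¹ := by group
        _ = (h : G) * (x * ((h : G)⁻¹ * g)) * (g : G)⁻¹ := by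
            rw [show (h : G)⁻¹ * g * x = x * ((h : G)⁻¹ * g) from
              ((show Commute ((g : G)⁻¹ * h) x from this).inv_left.eq.trans (by rfl)) |> fun e => by
                rwa [mul_inv_rev, inv_inv] at e]
        _ = _ := by group
    refine Nat.card_congr (Equiv.ofBijective (fun q => Quotient.liftOn' q
      (fun g : ↥H => (⟨(g : G) * x * (g : G)⁻¹, (hS _).2 ⟨g, g.2, rfl⟩⟩ : ↥S))
      fun g h e => Subtype.ext (hwd g h e)) ⟨?_, ?_⟩)
    · intro q r
      refine Quotient.inductionOn₂' q r fun g h e => Quotient.sound' ?_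
      have e' : (g : G) * x * (g : G)⁻¹ = h * x * (h : G)⁻¹ := congrArg Subtype.val e
      rw [QuotientGroup.leftRel_apply, Subgroup.mem_subgroupOf]
      refine ⟨SetLike.coe_mem _, mem_cent.2 ?_⟩
      simp only [Subgroup.coe_mul, InvMemClass.coe_inv]
      calc (g : G)⁻¹ * h * x = (g : G)⁻¹ * (h * x * (h : G)⁻¹) * h := by group
        _ = (g : G)⁻¹ * (g * x * (g : G)⁻¹) * h := by rw [e']
        _ = _ := by group
    · rintro ⟨y, hy⟩
      obtain ⟨h, hh, e⟩ := (hS y).1 hy
      exact ⟨Quotient.mk'' ⟨h, hh⟩, Subtype.ext e⟩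
  rw [← hi, ← hK, K.index_mul_card]

variable {t : G} {ρ : ℕ → G}

set_option maxHeartbeats 1000000 in
/-- There is a frame. -/
theorem exists_frame (h : Loc t ρ) (hone : ∀ x y : G, orderOf x = 2 → orderOf y = 2 → IsConj x y) :
    ∃ (E : Subgroup G) (c : G), Frame E c := by
  classical
  obtain ⟨hEc, hEsq, htE⟩ := E0_facts h
  obtain ⟨hM, X, hX4, hXE, htX, hXfix, hXmax, hreg, hnn⟩ := normaliser_facts h
  set E := E₀ h
  set N := Subgroup.normalizer ((E : Subgroup G) : Set G)
  have hEN : E ≤ N := Subgroup.le_normalizer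
  have ht1 : t ≠ 1 := fun e => by simpa [e] using h.ht
  have hcj : ∀ {g x : G}, g ∈ N → x ∈ E → g * x * g⁻¹ ∈ E := fun hg hx =>
    (Subgroup.mem_normalizer_iff.1 hg _).1 hx
  have hEcomm : ∀ x ∈ E, ∀ y ∈ E, x * y = y * x := by
    intro x hx y hy
    have e1 := hEsq _ (mul_mem hx hy)
    calc x * y = (x * y)⁻¹ := (inv_eq_of_mul_eq_one_right e1).symm
      _ = y⁻¹ * x⁻¹ := mul_inv_rev x y
      _ = y * x := by rw [inv_eq_of_mul_eq_one_right (hEsq x hx), inv_eq_of_mul_eq_one_right (hEsq y hy)]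
  -- transitivity
  have htrans : ∀ e ∈ E, e ≠ 1 → ∃ g ∈ N, g * t * g⁻¹ = e := by
    intro e he he1
    have heo : orderOf e = 2 := orderOf_eq_prime (by rw [pow_two]; exact hEsq e he) he1
    obtain ⟨g, hg⟩ := isConj_iff.1 (hone t e h.ht heo)
    obtain ⟨a, hat, ha⟩ := conj_E0 h (E.map (MulAut.conj g⁻¹).toMonoidHom)
      (by rw [Subgroup.card_map_of_injective (MulAut.conj g⁻¹).injective, hEc])
      (by
        rintro _ ⟨x, hx, rfl⟩
        show g⁻¹ * x * g⁻¹⁻¹ * (g⁻¹ * x * g⁻¹⁻¹) = 1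
        calc g⁻¹ * x * g⁻¹⁻¹ * (g⁻¹ * x * g⁻¹⁻¹) = g⁻¹ * (x * x) * g := by group
          _ = 1 := by rw [hEsq x hx]; group)
      ⟨e, he, by show g⁻¹ * e * g⁻¹⁻¹ = t; rw [← hg]; group⟩
    refine ⟨g * a, ?_, ?_⟩
    · have hle : ∀ x ∈ E, g * a * x * (g * a)⁻¹ ∈ E := by
        intro x hx
        have : a * x * a⁻¹ ∈ E.map (MulAut.conj g⁻¹).toMonoidHom := ha ▸ ⟨x, hx, rfl⟩
        obtain ⟨y, hy, e'⟩ := this
        have e'' : g⁻¹ * y * g⁻¹⁻¹ = a * x * a⁻¹ := e'
        have : g * a * x * (g * a)⁻¹ = y := by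
          calc g * a * x * (g * a)⁻¹ = g * (a * x * a⁻¹) * g⁻¹ := by group
            _ = y := by rw [← e'']; group
        rwa [this]
      have heq := Subgroup.eq_of_le_of_card_ge (H := E.map (MulAut.conj (g * a)).toMonoidHom) (K := E)
        (by rintro _ ⟨x, hx, rfl⟩; exact hle x hx)
        (Subgroup.card_map_of_injective (MulAut.conj (g * a)).injective).ge
      refine Subgroup.mem_normalizer_iff.2 fun x => ⟨hle x, fun hx => ?_⟩
      rw [← heq] at hx
      obtain ⟨z, hz, e'⟩ := hx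
      rwa [← show z = x from (MulAut.conj (g * a)).injective e']
    · calc g * a * t * (g * a)⁻¹ = g * (a * t) * a⁻¹ * g⁻¹ := by group
        _ = g * (t * a) * a⁻¹ * g⁻¹ := by rw [hat]
        _ = _ := by rw [← hg]; group
  have horb : ∀ y, y ∈ {y | y ∈ E ∧ y ≠ 1} ↔ ∃ g ∈ N, g * t * g⁻¹ = y := fun y =>
    ⟨fun hy => htrans y hy.1 hy.2,
      fun ⟨g, hg, e⟩ => e ▸ ⟨hcj hg htE, fun e' => ht1 (conj_eq_one_iff.1 e')⟩⟩
  have hncE : ∀ K : Subgroup G, {y : G | y ∈ K ∧ y ≠ 1}.ncard = Nat.card K - 1 := fun K => by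
    have : {y : G | y ∈ K ∧ y ≠ 1} = (K : Set G) \ {1} := by ext; simp
    rw [this, Set.ncard_diff_singleton_of_mem K.one_mem]
    congr 1
  have hN : Nat.card N = 2880 := by
    rw [← card_conj N t _ horb, hncE, hEc, hM]
  -- stabilisers
  have hstab : ∀ e ∈ E, e ≠ 1 → Nat.card ↥(N ⊓ Subgroup.centralizer ({e} : Set G)) = 192 := by
    intro e he he1
    have := card_conj N e {y | y ∈ E ∧ y ≠ 1} fun y => ⟨fun hy => ?_, ?_⟩
    · rw [hN, hncE, hEc] at this
      omega
    · obtain ⟨a, ha, ea⟩ := htrans e he he1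
      obtain ⟨b, hb, eb⟩ := htrans y hy.1 hy.2
      exact ⟨b * a⁻¹, mul_mem hb (inv_mem ha), by rw [← ea, ← eb]; group⟩
    · rintro ⟨g, hg, rfl⟩
      exact ⟨hcj hg he, fun e' => he1 (conj_eq_one_iff.1 e')⟩
  -- the lines
  have hXstab : ∀ x ∈ X, x ≠ 1 → N ⊓ Subgroup.centralizer ({t} : Set G) = N ⊓ Subgroup.centralizer ({x} : Set G) := by
    intro x hx hx1
    refine Subgroup.eq_of_le_of_card_ge ?_ ((hstab x (hXE hx) hx1).trans hM.symm).le
    exact fun g hg => ⟨hg.1, mem_cent.2 (hXfix g hg.1 (mem_cent.1 hg.2) x hx)⟩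
  have hconjstab : ∀ {g x y : G}, g * x * g⁻¹ = y → g ∈ N → ∀ k, k ∈ N → k * y = y * k →
      g⁻¹ * k * g ∈ N ∧ g⁻¹ * k * g * x = x * (g⁻¹ * k * g) := by
    intro g x y e hg k hk hky
    refine ⟨mul_mem (mul_mem (inv_mem hg) hk) hg, ?_⟩
    calc g⁻¹ * k * g * x = g⁻¹ * (k * (g * x * g⁻¹)) * g := by group
      _ = g⁻¹ * ((g * x * g⁻¹) * k) * g := by rw [e, hky]
      _ = _ := by group
  have hline : ∀ g ∈ N, g * t * g⁻¹ ∈ X → ∀ x ∈ X, g * x * g⁻¹ ∈ X := by
    intro g hg hgt x hx
    refine hXmax _ (hcj hg (hXE hx)) fun k hk hkt => ?_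
    have hk' : k * (g * t * g⁻¹) = g * t * g⁻¹ * k := hXfix k hk hkt _ hgt
    obtain ⟨h1, h2⟩ := hconjstab (g := g) (x := t) rfl hg k hk hk'
    have h3 := hXfix _ h1 h2 x hx
    calc k * (g * x * g⁻¹) = g * (g⁻¹ * k * g * x) * g⁻¹ := by group
      _ = g * (x * (g⁻¹ * k * g)) * g⁻¹ := by rw [h3]
      _ = _ := by group
  set P := N ⊓ Subgroup.normalizer ((X : Subgroup G) : Set G)
  have hP : ∀ g, g ∈ P ↔ g ∈ N ∧ g * t * g⁻¹ ∈ X := by
    intro g
    refine ⟨fun hg => ⟨hg.1, (Subgroup.mem_normalizer_iff.1 hg.2 t).1 htX⟩, fun ⟨hg, hgt⟩ => ⟨hg, ?_⟩⟩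
    have heq := Subgroup.eq_of_le_of_card_ge (H := X.map (MulAut.conj g).toMonoidHom) (K := X)
      (by rintro _ ⟨x, hx, rfl⟩; exact hline g hg hgt x hx)
      (Subgroup.card_map_of_injective (MulAut.conj g).injective).ge
    refine Subgroup.mem_normalizer_iff.2 fun x => ⟨fun hx => hline g hg hgt x hx, fun hx => ?_⟩
    rw [← heq] at hx
    obtain ⟨z, hz, e'⟩ := hx
    rwa [← show z = x from (MulAut.conj g).injective e']
  have hPM : P ⊓ Subgroup.centralizer ({t} : Set G) = N ⊓ Subgroup.centralizer ({t} : Set G) :=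
    le_antisymm (fun g hg => ⟨hg.1.1, hg.2⟩)
      (fun g hg => ⟨(hP g).2 ⟨hg.1, by rw [mem_cent.1 hg.2, mul_inv_cancel_right]; exact htX⟩, hg.2⟩)
  have hPcard : Nat.card P = 576 := by
    rw [← card_conj P t {y | y ∈ X ∧ y ≠ 1} fun y => ⟨fun hy => ?_, ?_⟩, hncE, hX4, hPM, hM]
    · obtain ⟨g, hg, e⟩ := htrans y (hXE hy.1) hy.2
      exact ⟨g, (hP g).2 ⟨hg, e ▸ hy.1⟩, e⟩
    · rintro ⟨g, hg, rfl⟩
      exact ⟨((hP g).1 hg).2, fun e' => ht1 (conj_eq_one_iff.1 e')⟩
  -- the action on the five lines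
  set P' := P.subgroupOf N
  have hP'i : P'.index = 5 := by
    have := P'.index_mul_card
    rw [Nat.card_congr (Subgroup.subgroupOfEquivOfLe (show P ≤ N from inf_le_left)).toEquiv, hPcard, hN] at this
    omega
  let φ : ↥N →* Equiv.Perm (↥N ⧸ P') := MulAction.toPermHom ↥N (↥N ⧸ P')
  set K0 := (φ.ker).map N.subtype
  have hK0 : ∀ k, k ∈ K0 ↔ k ∈ N ∧ ∀ g ∈ N, g⁻¹ * k * g ∈ P := by
    intro k
    constructor
    · rintro ⟨k', hk', rfl⟩
      refine ⟨k'.2, fun g hg => ?_⟩
      have e := Equiv.Perm.ext_iff.1 (MonoidHom.mem_ker.1 hk') (QuotientGroup.mk (⟨g, hg⟩ : ↥N))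
      have e' : (QuotientGroup.mk (k' * ⟨g, hg⟩) : ↥N ⧸ P') = QuotientGroup.mk (⟨g, hg⟩ : ↥N) := e
      rw [eq_comm, QuotientGroup.eq, Subgroup.mem_subgroupOf] at e'
      simpa [mul_assoc] using e'
    · rintro ⟨hk, hall⟩
      refine ⟨⟨k, hk⟩, MonoidHom.mem_ker.2 (Equiv.Perm.ext fun q => ?_), rfl⟩
      induction q using QuotientGroup.induction_on with
      | _ g =>
        show (QuotientGroup.mk (⟨k, hk⟩ * g) : ↥N ⧸ P') = QuotientGroup.mk g
        rw [eq_comm, QuotientGroup.eq, Subgroup.mem_subgroupOf]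
        simpa [mul_assoc] using hall g g.2
  have hK0n : ∀ g ∈ N, ∀ k ∈ K0, g * k * g⁻¹ ∈ K0 := by
    intro g hg k hk
    obtain ⟨h1, h2⟩ := (hK0 k).1 hk
    refine (hK0 _).2 ⟨mul_mem (mul_mem hg h1) (inv_mem hg), fun a ha => ?_⟩
    have := h2 (g⁻¹ * a) (mul_mem (inv_mem hg) ha)
    have e : (g⁻¹ * a)⁻¹ * k * (g⁻¹ * a) = a⁻¹ * (g * k * g⁻¹) * a := by group
    rwa [e] at this
  have hEK : E ≤ K0 := fun x hx => (hK0 x).2 ⟨hEN hx, fun g hg => by
    have hx' : g⁻¹ * x * g ∈ E := by simpa using hcj (inv_mem hg) hx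
    exact (hP _).2 ⟨hEN hx', by rw [hEcomm _ hx' t htE, mul_inv_cancel_right]; exact htX⟩⟩
  have hXinter : ∀ e ∈ E, e ∉ X → ∀ m, m ∈ N → m * t = t * m → m * e = e * m → m ∈ E := hreg
  -- the kernel meets the stabiliser of `t` in `E`
  obtain ⟨e₁, he₁, he₁X⟩ : ∃ e ∈ E, e ∉ X := by
    by_contra hne
    push Not at hne
    have := Subgroup.card_le_of_le (show E ≤ X from hne)
    rw [hEc, hX4] at this
    omega
  have he₁1 : e₁ ≠ 1 := fun e => he₁X (e ▸ one_mem X)
  obtain ⟨g₁, hg₁, hge₁⟩ := htrans e₁ he₁ he₁1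
  have hKM : K0 ⊓ Subgroup.centralizer ({t} : Set G) = E := by
    refine le_antisymm ?_ fun x hx => ⟨hEK hx, mem_cent.2 (hEcomm x hx t htE)⟩
    intro m hm
    by_contra hmE
    obtain ⟨hmN, -⟩ := (hK0 m).1 hm.1
    obtain ⟨y, hyN, hyt, hy⟩ := hnn m hmN (mem_cent.1 hm.2) hmE
    set m' := y * m * y⁻¹
    have hm' : m' ∈ K0 ⊓ Subgroup.centralizer ({t} : Set G) :=
      ⟨hK0n y hyN m hm.1, mem_cent.2 (((show Commute y t from hyt).mul_left
        (show Commute m t from mem_cent.1 hm.2)).mul_left (show Commute y t from hyt).inv_left).eq⟩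
    -- images of `e₁`
    let F : G → G := fun k => k * e₁ * k⁻¹
    have hF : ∀ k ∈ K0, F k ∈ (fun x => g₁ * x * g₁⁻¹) '' {y | y ∈ X ∧ y ≠ 1} := by
      intro k hk
      have := ((hP _).1 (((hK0 k).1 hk).2 g₁ hg₁)).2
      refine ⟨_, ⟨this, fun e' => ht1 (conj_eq_one_iff.1 e')⟩, ?_⟩
      show g₁ * (g₁⁻¹ * k * g₁ * t * (g₁⁻¹ * k * g₁)⁻¹) * g₁⁻¹ = k * e₁ * k⁻¹
      rw [← hge₁]; group
    have hinj : ∀ a ∈ K0 ⊓ Subgroup.centralizer ({t} : Set G), ∀ b ∈ K0 ⊓ Subgroup.centralizer ({t} : Set G),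
        F a = F b → b⁻¹ * a ∈ E := by
      intro a ha b hb e
      refine hXinter e₁ he₁ he₁X _ (mul_mem (inv_mem ((hK0 b).1 hb.1).1) ((hK0 a).1 ha.1).1) ?_ ?_
      · exact ((show Commute b t from mem_cent.1 hb.2).inv_left.mul_left
          (show Commute a t from mem_cent.1 ha.2)).eq
      · calc b⁻¹ * a * e₁ = b⁻¹ * (a * e₁ * a⁻¹) * a := by group
          _ = b⁻¹ * (b * e₁ * b⁻¹) * a := by rw [show a * e₁ * a⁻¹ = b * e₁ * b⁻¹ from e]
          _ = _ := by group
    let S : Finset G := {F 1, F m, F m', F (m * m)}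
    have hS : S.card ≤ 3 := by
      have hsub : (S : Set G) ⊆ (fun x => g₁ * x * g₁⁻¹) '' {y | y ∈ X ∧ y ≠ 1} := by
        intro x hx
        simp only [S, Finset.coe_insert, Finset.coe_singleton, Set.mem_insert_iff, Set.mem_singleton_iff] at hx
        rcases hx with rfl | rfl | rfl | rfl
        · exact hF 1 (one_mem _)
        · exact hF m hm.1
        · exact hF m' hm'.1
        · exact hF _ (mul_mem hm.1 hm.1)
      have h1 := Set.ncard_le_ncard hsub (Set.toFinite _)
      rw [Set.ncard_coe_finset] at h1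
      have h2 : ((fun x => g₁ * x * g₁⁻¹) '' {y | y ∈ X ∧ y ≠ 1}).ncard ≤ 3 :=
        (Set.ncard_image_le (Set.toFinite _)).trans (by rw [hncE, hX4])
      omega
    have hn1m : F 1 ≠ F m := fun e => hmE (by
      have := hinj 1 (one_mem _) m hm e
      simpa using inv_mem this)
    have hn1m' : F 1 ≠ F m' := fun e => by
      have h' := hinj m' hm' 1 (one_mem _) e.symm
      simp only [inv_one, one_mul] at h'
      exact (hy _ h').1 rfl
    have hnmm' : F m ≠ F m' := fun e => by
      have h' := hinj m' hm' m hm e.symm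
      obtain ⟨u, hu, hue⟩ : ∃ u ∈ E, m' = u * m :=
        ⟨m * (m⁻¹ * m') * m⁻¹, hcj hmN h', by group⟩
      exact (hy u hu).2.1 hue
    have hn2m : F (m * m) ≠ F m := fun e => hmE (by
      simpa using hinj (m * m) (mul_mem hm hm) m hm e)
    have hn2m' : F (m * m) ≠ F m' := fun e => by
      have h' := hinj m' hm' (m * m) (mul_mem hm hm) e.symm
      obtain ⟨u, hu, hue⟩ : ∃ u ∈ E, m' = u * (m * m) :=
        ⟨m * m * ((m * m)⁻¹ * m') * (m * m)⁻¹, hcj (mul_mem hmN hmN) h', by group⟩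
      exact (hy u hu).2.2 hue
    have hn21 : F (m * m) ≠ F 1 := fun e => by
      have h' : m * m ∈ E := by simpa using hinj (m * m) (mul_mem hm hm) 1 (one_mem _) e
      -- then `m * m'` gives a fourth image
      have hmm' := mul_mem hm hm'
      have hn : ∀ x ∈ ({F 1, F m, F m'} : Set G), F (m * m') ≠ x := by
        intro x hx
        simp only [Set.mem_insert_iff, Set.mem_singleton_iff] at hx
        rcases hx with rfl | rfl | rfl <;> intro e'
        · have : m * m' ∈ E := by simpa using hinj _ hmm' 1 (one_mem _) e'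
          obtain ⟨u, hu, hue⟩ : ∃ u ∈ E, m' = u * m :=
            ⟨m⁻¹ * (m * m') * m⁻¹, by
              have e2 : m⁻¹ * (m * m') * m⁻¹ = m⁻¹ * (m * m') * m * (m * m)⁻¹ := by group
              rw [e2]
              exact mul_mem (by simpa using hcj (inv_mem hmN) this) (inv_mem h'), by group⟩
          exact (hy u hu).2.1 hue
        · have : m' ∈ E := by simpa using hinj _ hmm' m hm e'
          exact (hy _ this).1 rfl
        · have : m'⁻¹ * (m * m') ∈ E := hinj _ hmm' m' hm' e'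
          have h5 := hcj ((hK0 m').1 hm'.1).1 this
          exact hmE (by simpa [mul_assoc] using h5)
      have h4 : ({F 1, F m, F m', F (m * m')} : Finset G).card = 4 := by
        rw [Finset.card_insert_of_notMem, Finset.card_insert_of_notMem, Finset.card_insert_of_notMem,
          Finset.card_singleton]
        · simp [(hn (F m') (by simp)).symm]
        · simp [hnmm', (hn (F m) (by simp)).symm]
        · simp [hn1m, hn1m', (hn (F 1) (by simp)).symm]
      have hsub : (({F 1, F m, F m', F (m * m')} : Finset G) : Set G) ⊆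
          (fun x => g₁ * x * g₁⁻¹) '' {y | y ∈ X ∧ y ≠ 1} := by
        intro x hx
        simp only [Finset.coe_insert, Finset.coe_singleton, Set.mem_insert_iff, Set.mem_singleton_iff] at hx
        rcases hx with rfl | rfl | rfl | rfl
        · exact hF 1 (one_mem _)
        · exact hF m hm.1
        · exact hF m' hm'.1
        · exact hF _ hmm'.1
      have h1 := Set.ncard_le_ncard hsub (Set.toFinite _)
      rw [Set.ncard_coe_finset, h4] at h1
      have h2 : ((fun x => g₁ * x * g₁⁻¹) '' {y | y ∈ X ∧ y ≠ 1}).ncard ≤ 3 :=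
        (Set.ncard_image_le (Set.toFinite _)).trans (by rw [hncE, hX4])
      omega
    have h4 : S.card = 4 := by
      show ({F 1, F m, F m', F (m * m)} : Finset G).card = 4
      rw [Finset.card_insert_of_notMem, Finset.card_insert_of_notMem, Finset.card_insert_of_notMem,
        Finset.card_singleton]
      · simp [hn2m'.symm]
      · simp [hnmm', hn2m.symm]
      · simp [hn1m, hn1m', hn21.symm]
    omega
  have hKstab : ∀ e ∈ E, e ≠ 1 → K0 ⊓ Subgroup.centralizer ({e} : Set G) = E := by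
    intro e he he1
    refine le_antisymm ?_ fun x hx => ⟨hEK hx, mem_cent.2 (hEcomm x hx e he)⟩
    intro k hk
    obtain ⟨g, hg, hge⟩ := htrans e he he1
    obtain ⟨-, h2⟩ := hconjstab hge hg k ((hK0 k).1 hk.1).1 (mem_cent.1 hk.2)
    have h3 : g⁻¹ * k * g ∈ E := hKM ▸ ⟨by simpa using hK0n g⁻¹ (inv_mem hg) k hk.1, mem_cent.2 h2⟩
    simpa [mul_assoc] using hcj hg h3
  -- the image
  have hker : Nat.card φ.ker = Nat.card K0 :=
    (Subgroup.card_map_of_injective N.subtype_injective).symm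
  haveI : Fintype (↥N ⧸ P') := Fintype.ofFinite _
  have hperm : Nat.card (Equiv.Perm (↥N ⧸ P')) = 120 := by
    rw [Nat.card_perm, ← Subgroup.index, hP'i]; rfl
  have hprod : Nat.card φ.range * Nat.card K0 = 2880 := by
    rw [← hker, ← hN, ← Subgroup.index_ker, Subgroup.index_mul_card]
  have hrange : Nat.card φ.range ∣ 120 := hperm ▸ Subgroup.card_subgroup_dvd_card _
  have hK48 : Nat.card K0 = 48 := by
    set o := {y : G | ∃ k ∈ K0, k * t * k⁻¹ = y}
    have ho := card_conj K0 t o fun y => Iff.rfl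
    rw [hKM, hEc] at ho
    have hle : o.ncard ≤ 3 := by
      have hsub : o ⊆ {y | y ∈ X ∧ y ≠ 1} := by
        rintro _ ⟨k, hk, rfl⟩
        have := ((hP _).1 (((hK0 k).1 hk).2 1 (one_mem _))).2
        exact ⟨by simpa using this, fun e' => ht1 (conj_eq_one_iff.1 e')⟩
      exact (Set.ncard_le_ncard hsub (Set.toFinite _)).trans (by rw [hncE, hX4])
    rw [← ho] at hprod
    rcases Nat.lt_or_ge o.ncard 3 with h3 | h3
    · exfalso
      interval_cases hq : o.ncard
      · omega
      · rw [show Nat.card φ.range = 180 by omega] at hrange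
        norm_num at hrange
      · rw [show Nat.card φ.range = 90 by omega] at hrange
        norm_num at hrange
    · omega
  have hr60 : Nat.card φ.range = 60 := by rw [hK48] at hprod; omega
  have hnt : Nontrivial (↥N ⧸ P') := by
    rw [← Finite.one_lt_card_iff_nontrivial, ← Subgroup.index, hP'i]; norm_num
  have hA5 : φ.range = alternatingGroup (↥N ⧸ P') := by
    refine Equiv.Perm.eq_alternatingGroup_of_index_eq_two ?_
    have := φ.range.index_mul_card
    rw [hr60, hperm] at this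
    omega
  have hsimple : IsSimpleGroup ↥φ.range := by
    rw [hA5]
    exact alternatingGroup.isSimpleGroup (by rw [← Subgroup.index, hP'i])
  -- no subgroups of these orders in the image
  have hsub60 : ∀ R : Subgroup (Equiv.Perm (↥N ⧸ P')), R ≤ φ.range →
      (∀ a ∈ φ.range, ∀ r ∈ R, a * r * a⁻¹ ∈ R) → R = ⊥ ∨ R = φ.range := by
    intro R hR hn
    haveI : (R.subgroupOf φ.range).Normal := ⟨fun r hr a => hn a a.2 r hr⟩
    rcases hsimple.eq_bot_or_eq_top_of_normal (R.subgroupOf φ.range) inferInstance with e | e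
    · exact Or.inl (by
        rw [Subgroup.subgroupOf_eq_bot, disjoint_iff] at e
        rwa [inf_eq_left.2 hR] at e)
    · exact Or.inr (le_antisymm hR (Subgroup.subgroupOf_eq_top.1 e))
  have hno30 : ∀ R : Subgroup (Equiv.Perm (↥N ⧸ P')), R ≤ φ.range → Nat.card R ≠ 30 := by
    intro R hR hc
    have hi : (R.subgroupOf φ.range).index = 2 := by
      have := (R.subgroupOf φ.range).index_mul_card
      rw [Nat.card_congr (Subgroup.subgroupOfEquivOfLe hR).toEquiv, hc, hr60] at this
      omega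
    haveI := Subgroup.normal_of_index_eq_two hi
    rcases hsimple.eq_bot_or_eq_top_of_normal (R.subgroupOf φ.range) inferInstance with e | e
    · rw [e, Subgroup.index_bot, hr60] at hi; norm_num at hi
    · rw [e, Subgroup.index_top] at hi; norm_num at hi
  -- the element of order three
  haveI : Fact (Nat.Prime 3) := ⟨Nat.prime_three⟩
  obtain ⟨cc, hcc⟩ := exists_prime_orderOf_dvd_card' (G := K0) 3 (by rw [hK48]; norm_num)
  set c : G := (cc : G)
  have hco : orderOf c = 3 := by rw [Subgroup.orderOf_coe, hcc]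
  have hcK : c ∈ K0 := cc.2
  have hcN : c ∈ N := ((hK0 c).1 hcK).1
  have hcE : c ∉ E := fun hc => by
    have := Subgroup.orderOf_dvd_natCard E hc
    rw [hco, hEc] at this
    norm_num at this
  have hc3 : c * c * c = 1 := by
    have := pow_orderOf_eq_one c
    rwa [hco, pow_succ, pow_two] at this
  have hfpf : ∀ e ∈ E, c * e = e * c → e = 1 := by
    intro e he hce
    by_contra he1
    exact hcE (hKstab e he he1 ▸ ⟨hcK, mem_cent.2 hce⟩)
  have hccE : c * c ∉ E := fun hm => hcE (by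
    have : c = (c * c) * (c * c) := by
      calc c = c * (c * c * c) := by rw [hc3, mul_one]
        _ = _ := by group
    rw [this]; exact mul_mem hm hm)
  -- the cosets of `E`
  have hcoset : ∀ k ∈ K0, ∃ e ∈ E, k = e ∨ k = c * e ∨ k = c * c * e := by
    let T : Set G := (E : Set G) ∪ ((fun e => c * e) '' E ∪ (fun e => c * c * e) '' E)
    have hsub : T ⊆ K0 := by
      rintro x (hx | ⟨e, he, rfl⟩ | ⟨e, he, rfl⟩)
      · exact hEK hx
      · exact mul_mem hcK (hEK he)
      · exact mul_mem (mul_mem hcK hcK) (hEK he)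
    have hT : T.ncard = 48 := by
      rw [Set.ncard_union_eq, Set.ncard_union_eq, Set.ncard_image_of_injective _ (mul_right_injective c),
        Set.ncard_image_of_injective _ (mul_right_injective (c * c)), ← Nat.card_coe_set_eq]
      · rw [show Nat.card (E : Set G) = 16 from hEc]
      · rw [Set.disjoint_left]
        rintro _ ⟨e, he, rfl⟩ ⟨f, hf, ef⟩
        refine hcE ?_
        have : c = e * f⁻¹ := by
          rw [eq_mul_inv_iff_mul_eq]
          exact mul_left_cancel (a := c) (by rw [← mul_assoc]; exact ef)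
        rw [this]; exact mul_mem he (inv_mem hf)
      · rw [Set.disjoint_left]
        rintro x hx (⟨e, he, rfl⟩ | ⟨e, he, rfl⟩)
        · exact hcE (by simpa using mul_mem hx (inv_mem he))
        · exact hccE (by simpa using mul_mem hx (inv_mem he))
    have heq : T = (K0 : Set G) := Set.eq_of_subset_of_ncard_le hsub
      (by rw [hT, ← Nat.card_coe_set_eq]; exact hK48.le)
    intro k hk
    have hk' : k ∈ T := by rw [heq]; exact hk
    rcases hk' with hx | ⟨e, he, rfl⟩ | ⟨e, he, rfl⟩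
    · exact ⟨k, hx, Or.inl rfl⟩
    · exact ⟨e, he, Or.inr (Or.inl rfl)⟩
    · exact ⟨e, he, Or.inr (Or.inr rfl)⟩
  have hcenv : ∀ {e : G}, e ∈ E → c⁻¹ * e * c ∈ E := fun he => by simpa using hcj (inv_mem hcN) he
  -- `c` is central modulo `E`
  let Np : Subgroup ↥N :=
    { carrier := {g | c⁻¹ * ((g : G) * c * (g : G)⁻¹) ∈ E}
      one_mem' := by simp
      mul_mem' := by
        intro g g' hg hg'
        simp only [Set.mem_setOf_eq, Subgroup.coe_mul] at hg hg' ⊢
        have : c⁻¹ * ((g : G) * g' * c * ((g : G) * g')⁻¹) = c⁻¹ * ((g : G) * c * (g : G)⁻¹) *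
            ((g : G) * (c⁻¹ * ((g' : G) * c * (g' : G)⁻¹)) * (g : G)⁻¹) := by group
        rw [this]
        exact mul_mem hg (hcj g.2 hg')
      inv_mem' := by
        intro g hg
        simp only [Set.mem_setOf_eq, InvMemClass.coe_inv, inv_inv] at hg ⊢
        have : c⁻¹ * ((g : G)⁻¹ * c * g) = ((g : G)⁻¹ * (c⁻¹ * ((g : G) * c * (g : G)⁻¹)) * g)⁻¹ := by group
        rw [this]
        exact inv_mem (by simpa using hcj (inv_mem g.2) hg) }
  have hNp : ∀ g : ↥N, g ∈ Np ↔ c⁻¹ * ((g : G) * c * (g : G)⁻¹) ∈ E := fun g => Iff.rfl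
  have hcase : ∀ g : ↥N, g ∉ Np → ∃ e ∈ E, (g : G) * c * (g : G)⁻¹ = c * c * e := by
    intro g hg
    obtain ⟨e, he, e1 | e1 | e1⟩ := hcoset _ (hK0n g g.2 c hcK)
    · exfalso
      refine hcE ?_
      have : (g : G)⁻¹ * e * g = c := by rw [← e1]; group
      rw [← this]
      simpa using hcj (inv_mem g.2) he
    · exact absurd ((hNp g).2 (by rw [e1, inv_mul_cancel_left]; exact he)) hg
    · exact ⟨e, he, e1⟩
  have hNtop : ∀ g : ↥N, g ∈ Np := by
    by_contra hne
    push Not at hne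
    obtain ⟨g0, hg0⟩ := hne
    have hi : Np.index = 2 := by
      rw [Subgroup.index_eq_two_iff]
      refine ⟨g0, fun b => ?_⟩
      by_cases hb : b ∈ Np
      · exact Or.inr ⟨hb, fun hbg => hg0 ((Np.mul_mem_cancel_left hb).1 hbg)⟩
      · refine Or.inl ⟨?_, hb⟩
        obtain ⟨e, he, eb⟩ := hcase b hb
        obtain ⟨f, hf, eg⟩ := hcase g0 hg0
        rw [hNp, Subgroup.coe_mul]
        have : c⁻¹ * ((b : G) * g0 * c * ((b : G) * g0)⁻¹) =
            c⁻¹ * (((b : G) * c * (b : G)⁻¹) * ((b : G) * c * (b : G)⁻¹) * ((b : G) * f * (b : G)⁻¹)) := by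
          calc c⁻¹ * ((b : G) * g0 * c * ((b : G) * g0)⁻¹)
              = c⁻¹ * ((b : G) * ((g0 : G) * c * (g0 : G)⁻¹) * (b : G)⁻¹) := by group
            _ = _ := by rw [eg]; group
        rw [this, eb]
        have e4 : c⁻¹ * (c * c * e * (c * c * e) * ((b : G) * f * (b : G)⁻¹)) =
            (c * e * c⁻¹) * (c * c * c) * e * ((b : G) * f * (b : G)⁻¹) := by group
        rw [e4, hc3, mul_one]
        exact mul_mem (mul_mem (hcj hcN he) he) (hcj b.2 hf)
    have hle : φ.ker ≤ Np := by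
      intro k hk
      have hkK : (k : G) ∈ K0 := ⟨k, hk, rfl⟩
      rw [hNp]
      obtain ⟨e, he, e1 | e1 | e1⟩ := hcoset _ hkK <;> rw [e1]
      · have : c⁻¹ * (e * c * e⁻¹) = (c⁻¹ * e * c) * e⁻¹ := by group
        rw [this]; exact mul_mem (hcenv he) (inv_mem he)
      · have : c⁻¹ * (c * e * c * (c * e)⁻¹) = c * (c⁻¹ * (e * c * e⁻¹)) * c⁻¹ * 1 := by group
        rw [this, mul_one]
        refine hcj hcN ?_
        have : c⁻¹ * (e * c * e⁻¹) = (c⁻¹ * e * c) * e⁻¹ := by group
        rw [this]; exact mul_mem (hcenv he) (inv_mem he)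
      · have : c⁻¹ * (c * c * e * c * (c * c * e)⁻¹) =
            c * c * ((c⁻¹ * e * c) * e⁻¹) * (c * c)⁻¹ := by group
        rw [this]
        exact hcj (mul_mem hcN hcN) (mul_mem (hcenv he) (inv_mem he))
    have hc30 : Nat.card (Np.map φ) = 30 := by
      have h1 := Np.index_mul_card
      rw [hi, hN] at h1
      have h2 := Subgroup.relIndex_ker Np φ
      have h3 : φ.ker.relIndex Np * Nat.card φ.ker = Nat.card Np := by
        rw [← Nat.card_congr (Subgroup.subgroupOfEquivOfLe hle).toEquiv]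
        exact (φ.ker.subgroupOf Np).index_mul_card
      rw [h2, hker, hK48] at h3
      omega
    exact hno30 _ (Subgroup.map_le_range _ _) hc30
  -- the centraliser in `N`
  have hDcard : Nat.card (dGrp E c) = 180 := by
    have hset : ∀ y, y ∈ (fun e => c * e) '' (E : Set G) ↔ ∃ g ∈ N, g * c * g⁻¹ = y := by
      have hinj : Set.InjOn (fun e => c⁻¹ * e * c * e⁻¹) (E : Set G) := by
        intro a ha b hb e
        have hab := mul_mem (inv_mem hb) ha
        have h1 : c⁻¹ * a * c * a⁻¹ = c⁻¹ * b * c * b⁻¹ := e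
        have h2 : c * (b⁻¹ * a) = b⁻¹ * a * c := by
          calc c * (b⁻¹ * a) = b⁻¹ * c * (c⁻¹ * b * c * b⁻¹) * a := by group
            _ = b⁻¹ * c * (c⁻¹ * a * c * a⁻¹) * a := by rw [h1]
            _ = _ := by group
        exact (inv_mul_eq_one.1 (hfpf _ hab h2)).symm
      have himg : (fun e => c⁻¹ * e * c * e⁻¹) '' (E : Set G) = E := Set.eq_of_subset_of_ncard_le
        (by rintro _ ⟨e, he, rfl⟩; exact mul_mem (hcenv he) (inv_mem he))
        (by rw [Set.ncard_image_of_injOn hinj])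
      intro y
      constructor
      · rintro ⟨e, he, rfl⟩
        rw [← himg] at he
        obtain ⟨f, hf, rfl⟩ := he
        exact ⟨f, hEN hf, by group⟩
      · rintro ⟨g, hg, rfl⟩
        exact ⟨_, (hNp ⟨g, hg⟩).1 (hNtop ⟨g, hg⟩), by group⟩
    have := card_conj N c _ hset
    rw [Set.ncard_image_of_injective _ (mul_right_injective c), hN, ← Nat.card_coe_set_eq,
      show Nat.card (E : Set G) = 16 from hEc] at this
    show Nat.card ↥(N ⊓ Subgroup.centralizer ({c} : Set G)) = 180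
    omega
  -- the kernel on `D`
  have hDN : dGrp E c ≤ N := inf_le_left
  have hDK : Nat.card (φ.ker ⊓ (dGrp E c).subgroupOf N : Subgroup ↥N) ≤ 3 := by
    rw [← Subgroup.card_map_of_injective (K := φ.ker ⊓ (dGrp E c).subgroupOf N) N.subtype_injective]
    refine le_trans (Subgroup.card_le_of_le (K := Subgroup.zpowers c) ?_) (by rw [Nat.card_zpowers, hco])
    rintro _ ⟨k, ⟨hk, hkD⟩, rfl⟩
    have hkc : (k : G) * c = c * k := mem_cent.1 hkD.2
    obtain ⟨e, he, e1 | e1 | e1⟩ := hcoset (k : G) ⟨k, hk, rfl⟩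
    · have : e = 1 := hfpf e he (by rw [← e1, hkc])
      show (k : G) ∈ _
      rw [e1, this]; exact one_mem _
    · have : e = 1 := hfpf e he (by
        rw [e1] at hkc
        exact mul_left_cancel (a := c) (hkc.symm.trans (mul_assoc c e c)))
      show (k : G) ∈ _
      rw [e1, this, mul_one]; exact Subgroup.mem_zpowers c
    · have : e = 1 := hfpf e he (by
        rw [e1] at hkc
        refine mul_left_cancel (a := c * c) ?_
        calc c * c * (c * e) = c * (c * c * e) := by group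
          _ = c * c * e * c := hkc.symm
          _ = _ := by group)
      show (k : G) ∈ _
      rw [e1, this, mul_one]; exact mul_mem (Subgroup.mem_zpowers c) (Subgroup.mem_zpowers c)
  have hmapD : ∀ M : Subgroup G, M ≤ dGrp E c →
      Nat.card ((M.subgroupOf N).map φ) ∣ Nat.card M ∧ Nat.card M ≤ 3 * Nat.card ((M.subgroupOf N).map φ) := by
    intro M hM
    have hMN : M ≤ N := hM.trans hDN
    have h1 := Subgroup.relIndex_ker (M.subgroupOf N) φ
    have h2 := (φ.ker.subgroupOf (M.subgroupOf N)).index_mul_card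
    rw [Nat.card_congr (Subgroup.subgroupOfEquivOfLe hMN).toEquiv,
      show (φ.ker.subgroupOf (M.subgroupOf N)).index = φ.ker.relIndex (M.subgroupOf N) from rfl, h1] at h2
    refine ⟨Dvd.intro _ h2, ?_⟩
    have hk : Nat.card ↥(φ.ker.subgroupOf (M.subgroupOf N)) ≤ 3 := by
      rw [← Subgroup.inf_subgroupOf_right φ.ker (M.subgroupOf N), Nat.card_congr (Subgroup.subgroupOfEquivOfLe inf_le_right).toEquiv]
      exact le_trans (Subgroup.card_le_of_le (inf_le_inf_left φ.ker fun x hx => hM hx)) hDK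
    calc Nat.card M = Nat.card ((M.subgroupOf N).map φ) * Nat.card ↥(φ.ker.subgroupOf (M.subgroupOf N)) := h2.symm
      _ ≤ _ := by rw [mul_comm 3]; exact Nat.mul_le_mul_left _ hk
  refine ⟨E, c, hEc, hEsq, hco, hcN, hfpf, hDcard, ?_, ?_, ?_⟩
  · intro f hf hf5 e he hfe
    by_contra he1
    have := Subgroup.orderOf_dvd_natCard (s := N ⊓ Subgroup.centralizer ({e} : Set G)) ⟨hf, mem_cent.2 hfe⟩
    rw [hf5, hstab e he he1] at this
    norm_num at this
  · intro M hM hcM
    obtain ⟨h1, h2⟩ := hmapD M hM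
    have h3 : Nat.card ((M.subgroupOf N).map φ) ∣ 60 :=
      hr60 ▸ Subgroup.card_dvd_of_le (Subgroup.map_le_range _ _)
    rw [hcM] at h1 h2
    have h4 : Nat.card ((M.subgroupOf N).map φ) ∣ 30 := (Nat.dvd_gcd h1 h3).trans (by norm_num)
    have h5 := Nat.le_of_dvd (by norm_num) h4
    exact hno30 ((M.subgroupOf N).map φ) (Subgroup.map_le_range _ _) (by omega)
  · intro M hM hcM hnorm
    have hDtop : ((dGrp E c).subgroupOf N).map φ = φ.range := by
      refine Subgroup.eq_of_le_of_card_ge (Subgroup.map_le_range _ _) ?_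
      have := (hmapD _ le_rfl).2
      rw [hDcard] at this
      omega
    obtain ⟨h1, h2⟩ := hmapD M hM
    rw [hcM] at h1 h2
    rcases hsub60 ((M.subgroupOf N).map φ) (Subgroup.map_le_range _ _) (by
        intro a ha r hr
        rw [← hDtop] at ha
        obtain ⟨d, hd, rfl⟩ := ha
        obtain ⟨m, hm, rfl⟩ := hr
        exact ⟨d * m * d⁻¹, hnorm d hd m hm, by simp⟩) with e | e
    · rw [e, Subgroup.card_bot] at h2; omega
    · rw [e, hr60] at h1; norm_num at h1

end CfsgLib.Sporadic.J3Linear
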